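import Cfsg.Agent.Lib.BenderOne.Targets
import Cfsg.Agent.Lib.BenderConsumers23.Basic
import Cfsg.Agent.Lib.OddOrder.FeitThompson

/-!
# A strongly embedded subgroup with a four group is solvable

Owner: helper11. Modulo `BenderOne.PropSplit` (part I of Bender's theorem); uses the odd order
theorem.
-/

set_option autoImplicit false
set_option linter.style.haveILetI false

namespace Cfsg.Agent.Lib.BenderDeps.SolvableEmbedded

open Subgroup
open Cfsg.Agent.Lib.Involutions.Basic Cfsg.Agent.Lib.Involutions.StronglyEmbedded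
open Cfsg.Agent.Lib.BenderOne
open Cfsg.Agent.Lib.BenderOne20 (HasFour)

universe u

variable {G : Type u} [Group G] [Finite G] {H : Subgroup G}

theorem isSolvable_of_split (hSE : Cfsg.IsStronglyEmbedded H) (h : Split H) :
    Group.IsSolvable H := by
  obtain ⟨Q, hQ, hR⟩ := h
  haveI : Fact (Nat.Prime 2) := ⟨Nat.prime_two⟩
  obtain ⟨g, -, hg⟩ := SetLike.exists_of_lt (lt_top_iff_ne_top.2 hSE.1)
  set Q' := Q.subgroupOf H with hQ'
  haveI hn : Q'.Normal := ⟨fun q hq x =>
    mem_subgroupOf.2 (hR.conj_mem (x : G) x.2 (q : G) (mem_subgroupOf.1 hq))⟩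
  set D := (H ⊓ H.map (MulAut.conj g).toMonoidHom).subgroupOf H with hD
  have hDodd : Odd (Nat.card D) := by
    rw [hD, Nat.card_congr (subgroupOfEquivOfLe inf_le_left).toEquiv]
    exact hSE.2.2 g hg
  haveI := OddOrder.FeitThompson.isSolvable_of_odd_card (G := D) hDodd
  have hsurj : Function.Surjective ((QuotientGroup.mk' Q').comp D.subtype) := by
    intro y
    obtain ⟨x, rfl⟩ := QuotientGroup.mk'_surjective Q' y
    obtain ⟨q, hq, hq'⟩ := hR.trans ((x : G) * g) g
      (fun hc => hg ((mul_mem_cancel_left x.2).1 hc)) hg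
    refine ⟨⟨⟨q, hR.le hq⟩ * x, ?_⟩, ?_⟩
    · rw [hD, mem_subgroupOf, mem_inf]
      refine ⟨mul_mem (hR.le hq) x.2, mem_conj_iff.2 ?_⟩
      show g⁻¹ * (q * (x : G)) * g ∈ H
      simpa [mul_assoc] using hq'
    · show ((⟨q, hR.le hq⟩ * x : H) : H ⧸ Q') = (x : H ⧸ Q')
      have h1 : ((⟨q, hR.le hq⟩ : H) : H ⧸ Q') = 1 :=
        (QuotientGroup.eq_one_iff _).2 (mem_subgroupOf.2 hq)
      rw [QuotientGroup.mk_mul, h1, one_mul]
  haveI : Group.IsSolvable (H ⧸ Q') := Group.isSolvable_of_surjective hsurj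
  haveI : Group.IsSolvable Q' := by
    haveI := (hQ.of_equiv (subgroupOfEquivOfLe hR.le).symm).isNilpotent
    infer_instance
  exact Group.isSolvable_of_ker_le_range Q'.subtype (QuotientGroup.mk' Q') (by simp)

/-- In a group of `2`-rank at least two every strongly embedded subgroup is solvable. -/
theorem isSolvable (hP : PropSplit.{u}) (hSE : Cfsg.IsStronglyEmbedded H) (hfour : HasFour H) :
    Group.IsSolvable H := by
  obtain ⟨h1, h2, h3⟩ := quotient_core hSE hfour
  haveI := isSolvable_of_split h1 (hP _ _ h1 h2 h3)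
  set K := H.normalCore with hK
  haveI : Group.IsSolvable K := OddOrder.FeitThompson.isSolvable_of_odd_card (G := K)
    ((odd_card_iff_no_invol _).2 fun _ hx h2 => not_mem_core hSE h2 hx)
  refine Group.isSolvable_of_ker_le_range (Subgroup.inclusion (normalCore_le H))
    ((QuotientGroup.mk' K).subgroupMap H) fun x hx => ?_
  have hx' : (x : G) ∈ K := (QuotientGroup.eq_one_iff _).1 (congrArg Subtype.val hx)
  exact ⟨⟨x, hx'⟩, Subtype.ext rfl⟩

omit [Finite G] in
theorem twoRank_of_pRankAtLeast (h : Cfsg.PRankAtLeast 2 2 G) :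
    BenderSuzuki.TwoRank G := by
  obtain ⟨A, hA, hexp, hcard⟩ := h
  haveI : Finite A := Nat.finite_of_card_ne_zero (by omega)
  haveI : Fintype A := Fintype.ofFinite A
  rw [Nat.card_eq_fintype_card] at hcard
  have hsq : ∀ a ∈ A, a * a = 1 := fun a ha => by rw [← pow_two]; exact hexp a ha
  obtain ⟨x, hx⟩ := Fintype.exists_ne_of_one_lt_card (α := A) (by omega) 1
  classical
  obtain ⟨y, hy⟩ : ∃ y : A, y ∉ ({1, x} : Finset A) :=
    by
      by_contra hno
      push Not at hno
      have h1 : Fintype.card A ≤ ({1, x} : Finset A).card := by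
        rw [← Finset.card_univ]
        exact Finset.card_le_card fun z _ => hno z
      have h2 := Finset.card_le_two (a := (1 : A)) (b := x)
      omega
  simp only [Finset.mem_insert, Finset.mem_singleton, not_or] at hy
  exact ⟨x, y, fun h => hx (Subtype.ext h), fun h => hy.1 (Subtype.ext h),
    fun h => hy.2 (Subtype.ext h).symm, hsq _ x.2, hsq _ y.2,
    congrArg Subtype.val (hA.1.comm x y)⟩

theorem hasFour_of_twoRank (hSE : Cfsg.IsStronglyEmbedded H) (h : BenderSuzuki.TwoRank G) :
    HasFour H := by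
  obtain ⟨x, y, hx, hy, hne, hxx, hyy, hxy⟩ := h
  have hx2 := BenderConsumers23.sq_eq_one_iff'.1 ⟨hxx, hx⟩
  have hy2 := BenderConsumers23.sq_eq_one_iff'.1 ⟨hyy, hy⟩
  obtain ⟨g, hg⟩ := exists_conj_mem hSE hx2
  set e := MulAut.conj g with he
  have hex : orderOf (e x) = 2 := by rw [e.orderOf_eq]; exact hx2
  have hc : e x * e y = e y * e x := by rw [← map_mul, hxy, map_mul]
  exact ⟨e x, hg, e y,
    centralizer_le hSE hex hg (Subgroup.mem_centralizer_singleton_iff.2 hc.symm), hex,
    by rw [e.orderOf_eq]; exact hy2, fun h => hne (e.injective h), hc⟩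

/-- The statement of S2903 from part I. -/
theorem row2903 (hP : PropSplit.{u}) (hrank : Cfsg.PRankAtLeast 2 2 G)
    (hH : Cfsg.IsStronglyPEmbedded 2 H) : Group.IsSolvable H :=
  have hSE := BenderConsumers23.isStronglyEmbedded_of_sPE hH
  isSolvable hP hSE (hasFour_of_twoRank hSE (twoRank_of_pRankAtLeast hrank))

end Cfsg.Agent.Lib.BenderDeps.SolvableEmbedded
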