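import Cfsg.Agent.Lib.BenderDeps.FourConnected
import Cfsg.Agent.Lib.Balance.PLayer
import Cfsg.Agent.Lib.PLocal.Constrained
import Cfsg.Agent.Lib.OddOrder.FeitThompson

/-!
# Consumers of the core lemma for strongly embedded subgroups
-/

set_option autoImplicit false
set_option linter.style.haveILetI false

open Cfsg
open Cfsg.Agent.Lib
open Cfsg.Agent.Lib.BenderDeps.Row3109 (CoreOfStronglyEmbedded)

namespace Cfsg.Agent.Lib.BenderDeps.Consumers

universe u

variable {G : Type u} [Group G] [Finite G]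

theorem oddOrderSolvable : FTDeps.Basic.OddOrderSolvable.{u} :=
  fun H _ _ h => Cfsg.Agent.Lib.OddOrder.FeitThompson.isSolvable_of_odd_card (G := H) h

/-- A group of odd core quotient without components has trivial 2-layer and is 2-constrained. -/
theorem constrained_of_not_hasComponent {C : Type*} [Group C] [Finite C]
    (h : ¬ Cfsg.HasComponent (C ⧸ oddCore C)) :
    pLayer 2 C = ⊥ ∧ Cfsg.IsPConstrained 2 C := by
  haveI : Fact (Nat.Prime 2) := ⟨Nat.prime_two⟩
  have hL : pLayer 2 C = ⊥ := sSup_eq_bot.2 fun K hK => by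
    exfalso
    exact h ⟨_, hK.2.1.1, hK.2.1.2⟩
  exact ⟨hL, PSolvable.isPConstrained_iff.2
    (Balance.centralizer_pCore_le_iff.2 (Balance.generalizedFitting_quotient hL))⟩

/-- S0504 modulo the core lemma. -/
theorem isCharacteristicTwoType (hBender : CoreOfStronglyEmbedded.{u})
    (h3 : ¬ Cfsg.PRankLE 2 2 G) (hO : Cfsg.oddCore G = ⊥) (hc : ¬ Cfsg.IsComponentType G)
    (S : Sylow 2 G) (hS : Cfsg.IsFourConnected (S : Subgroup G)) :
    Cfsg.IsCharacteristicTwoType G := by
  haveI : Fact (Nat.Prime 2) := ⟨Nat.prime_two⟩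
  have hlocal : ∀ t : G, orderOf t = 2 →
      pLayer 2 ↥(Subgroup.centralizer ({t} : Set G)) = ⊥ ∧
        Cfsg.IsPConstrained 2 ↥(Subgroup.centralizer ({t} : Set G)) :=
    fun t ht => constrained_of_not_hasComponent fun h => hc ⟨t, ht, h⟩
  have hcores := CoresTrivial.cores_eq_bot hBender hO (fun t ht => (hlocal t ht).2)
    (FourConnected.exists_eight h3)
    (FourConnected.cores_generate oddOrderSolvable (fun t ht => (hlocal t ht).1) h3 S hS)
  refine ⟨?_, fun T hT hT1 => Balance.centralizer_pCore_le_local (fun t ht => ?_) hT hT1⟩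
  · obtain ⟨E, -, hE, h8⟩ := FourConnected.exists_eight h3 S
    obtain ⟨m, hm⟩ := PGroups.elemAb_card_eq_pow hE
    have hm0 : m ≠ 0 := fun h => by rw [hm, h, pow_zero] at h8; omega
    exact even_iff_two_dvd.2 (((dvd_pow_self 2 hm0).trans (dvd_of_eq hm.symm)).trans
      (Subgroup.card_subgroup_dvd_card E))
  · have hcore : pPrimeCore 2 ↥(Subgroup.centralizer ({t} : Set G)) = ⊥ := by
      have h0 := hcores t ht
      unfold centralizerPPrimeCore at h0
      exact (Subgroup.map_eq_bot_iff_of_injective _ (Subgroup.subtype_injective _)).1 h0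
    exact PLocal.Constrained.charP_transport
      ((QuotientGroup.quotientMulEquivOfEq hcore).trans QuotientGroup.quotientBot)
      (PSolvable.isPConstrained_iff.1 (hlocal t ht).2)

/-- S3332 modulo the core lemma. -/
theorem oddCore_centralizer_eq_bot (hBender : CoreOfStronglyEmbedded.{u})
    (hrank : ¬ Cfsg.PRankLE 2 3 G) (hO : Cfsg.oddCore G = ⊥) (S : Sylow 2 G)
    (A : Subgroup G) (hAS : A ≤ S) (hAn : (A.subgroupOf S).Normal) (hAc : IsMulCommutative A)
    (hA3 : ¬ Cfsg.PRankLE 2 2 A)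
    (hsol : ∀ t : G, orderOf t = 2 → Group.IsSolvable (Subgroup.centralizer ({t} : Set G))) :
    ∀ t : G, orderOf t = 2 → Cfsg.oddCore (Subgroup.centralizer ({t} : Set G)) = ⊥ := by
  haveI : Fact (Nat.Prime 2) := ⟨Nat.prime_two⟩
  have h3 : ¬ Cfsg.PRankLE 2 2 G := fun h => hrank fun E hEc hE =>
    (h E hEc hE).trans (Nat.pow_le_pow_right two_pos (by norm_num))
  have hA3' : ¬ Cfsg.PRankLE 2 2 ↥(A.subgroupOf (S : Subgroup G)) := by
    intro h
    refine hA3 fun E hEc hE => ?_
    let e := (Subgroup.subgroupOfEquivOfLe hAS).symm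
    have h' : IsElementaryAbelian 2 (E.map e.toMonoidHom) :=
      PGroups.elemAb_map _ ⟨hEc, hE⟩
    have := h (E.map e.toMonoidHom) h'.1 h'.2
    rwa [Subgroup.card_map_of_injective (f := e.toMonoidHom) e.injective] at this
  haveI : IsMulCommutative ↥(A.subgroupOf (S : Subgroup G)) :=
    ⟨⟨fun a b => Subtype.ext (Subtype.ext
      (congrArg (fun x : ↥A => (x : G)) (hAc.is_comm.comm (⟨_, a.2⟩ : ↥A) ⟨_, b.2⟩)))⟩⟩
  have hlayer : ∀ t : G, orderOf t = 2 →
      pLayer 2 ↥(Subgroup.centralizer ({t} : Set G)) = ⊥ ∧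
        Cfsg.IsPConstrained 2 ↥(Subgroup.centralizer ({t} : Set G)) := fun t ht => by
    haveI := hsol t ht
    have hL := Balance.pLayer_eq_bot_of_isSolvable (p := 2) (G := ↥(Subgroup.centralizer ({t} : Set G)))
    exact ⟨hL, PSolvable.isPConstrained_iff.2
      (Balance.centralizer_pCore_le_iff.2 (Balance.generalizedFitting_quotient hL))⟩
  have hcores := CoresTrivial.cores_eq_bot hBender hO (fun t ht => (hlayer t ht).2)
    (FourConnected.exists_eight h3)
    (fun R => FTDeps.Row3110.cores_generate_of_pLayer oddOrderSolvable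
      (fun t ht => (hlayer t ht).1) S (A.subgroupOf (S : Subgroup G)) hAn inferInstance hA3' R)
  intro t ht
  have h0 := hcores t ht
  unfold centralizerPPrimeCore at h0
  exact (Subgroup.map_eq_bot_iff_of_injective _ (Subgroup.subtype_injective _)).1 h0

end Cfsg.Agent.Lib.BenderDeps.Consumers
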