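import Cfsg.Agent.Lib.PGroups.UniqueInvolution
import Cfsg.Agent.Lib.PGroups.ElemAb
import Cfsg.Agent.Lib.Coprime.Commutator
import Cfsg.Agent.Lib.MetacyclicChains.CharIndex
import Cfsg.Agent.Lib.Balance.Locals

/-!
# Groups of characteristic 2 whose 2-core has only one involution

Such a group has 2-rank at most two.
-/

set_option autoImplicit false
set_option linter.style.haveILetI false

open Cfsg
open Cfsg.Agent.Lib

namespace Cfsg.Agent.Lib.BenderDeps.CoreRankOne

variable {H : Type*} [Group H]

/-- A finite 2-group with at most one involution is generated by two elements. -/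
theorem index_frattini_le_four {Q : Type*} [Group Q] [Finite Q] [Fact (Nat.Prime 2)]
    (hQ : IsPGroup 2 Q) (huniq : ∀ u v : Q, orderOf u = 2 → orderOf v = 2 → u = v) :
    (frattini Q).index ≤ 4 := by
  have h4 : (2 : ℕ) ^ 2 = 4 := by norm_num
  rw [← h4]
  rcases PGroups.isCyclic_or_quaternion hQ (fun u v hu hv => by
      rw [huniq u v hu hv]; exact Subgroup.mem_zpowers v) with hcyc | ⟨-, n, -, ⟨e⟩⟩
  · obtain ⟨x, hx⟩ := hcyc.exists_generator
    refine MetacyclicChains.CharIndex.index_frattini_le hQ (a := x) (b := 1) fun y => ?_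
    obtain ⟨i, hi⟩ := Subgroup.mem_zpowers_iff.1 (hx y)
    exact ⟨i, 0, by simp [hi]⟩
  · haveI : NeZero (2 ^ n) := ⟨by positivity⟩
    refine MetacyclicChains.CharIndex.index_frattini_le hQ (a := e.symm (QuaternionGroup.xa 0))
      (b := e.symm (QuaternionGroup.a 1)) fun y => ?_
    rcases hq : e y with i | i
    · refine ⟨0, (i.val : ℤ), e.injective ?_⟩
      rw [hq, zpow_zero, one_mul, zpow_natCast, map_pow, MulEquiv.apply_symm_apply,
        QuaternionGroup.a_one_pow, ZMod.natCast_zmod_val]
    · refine ⟨1, (i.val : ℤ), e.injective ?_⟩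
      rw [hq, zpow_one, zpow_natCast, map_mul, map_pow, MulEquiv.apply_symm_apply,
        MulEquiv.apply_symm_apply, QuaternionGroup.a_one_pow, ZMod.natCast_zmod_val,
        QuaternionGroup.xa_mul_a, zero_add]

/-- A group with `C(O₂) ≤ O₂` and only one involution in `O₂` has no elementary abelian subgroup
of order 8. -/
theorem card_elemAb_lt_eight [Finite H] [Fact (Nat.Prime 2)]
    (hc : Subgroup.centralizer (pCore 2 H : Set H) ≤ pCore 2 H)
    (huniq : ∀ u v : ↥(pCore 2 H), orderOf u = 2 → orderOf v = 2 → u = v) {E : Subgroup H}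
    (hE : IsElementaryAbelian 2 E) : Nat.card ↥E < 8 := by
  classical
  set Q := pCore 2 H with hQdef
  have hQp : IsPGroup 2 ↥Q := Cores.pCore_isPGroup 2
  set Φ := (frattini ↥Q).map Q.subtype with hΦ
  haveI : Φ.Normal := Cores.normal_map_subtype Q (frattini ↥Q)
  set π := QuotientGroup.mk' Φ
  set V := Q.map π with hV
  haveI : V.Normal := Subgroup.Normal.map inferInstance π (QuotientGroup.mk'_surjective _)
  have hVcard : Nat.card ↥V ≤ 4 := by
    refine le_trans (le_of_eq ?_) (index_frattini_le_four hQp huniq)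
    have hker : (π.subgroupMap Q).ker = frattini ↥Q := by
      ext x
      rw [MonoidHom.mem_ker, Subtype.ext_iff]
      show (QuotientGroup.mk' Φ (x : H)) = 1 ↔ _
      rw [QuotientGroup.mk'_apply, QuotientGroup.eq_one_iff, hΦ]
      exact Subgroup.mem_map_iff_mem Q.subtype_injective
    rw [← hker, Subgroup.index_ker, MonoidHom.range_eq_top.2 (π.subgroupMap_surjective Q),
      Subgroup.card_top]
  let X := {v : ↥V // v ≠ 1}
  let act : ↥E →* MulAut ↥V := (MulAut.conjNormal (H := V)).comp (π.comp E.subtype)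
  let toPerm : MulAut ↥V →* Equiv.Perm X :=
    { toFun := fun φ => φ.toEquiv.subtypeEquiv fun v => by simp
      map_one' := by ext v; rfl
      map_mul' := fun φ ψ => by ext v; rfl }
  have htoPerm : Function.Injective toPerm := by
    intro φ ψ h
    ext v
    by_cases hv : v = 1
    · simp [hv]
    · have := congrArg (fun (f : Equiv.Perm X) => ((f ⟨v, hv⟩ : X) : ↥V)) h
      exact congrArg Subtype.val this
  set f : ↥E →* Equiv.Perm X := toPerm.comp act
  -- the kernel consists of elements acting trivially on `Q / Φ(Q)`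
  set K : Subgroup H := ((MulAut.conjNormal (H := V)).comp π).ker with hK
  have hKmem : ∀ k : H, k ∈ K → ∀ q ∈ Q, k * q * k⁻¹ * q⁻¹ ∈ Φ := by
    intro k hk q hq
    have h1 := congrArg (fun φ : MulAut ↥V => ((φ ⟨π q, ⟨q, hq, rfl⟩⟩ : ↥V) : H ⧸ Φ))
      (MonoidHom.mem_ker.1 hk)
    simp only [MonoidHom.comp_apply, MulAut.conjNormal_apply, MulAut.one_apply] at h1
    rw [← QuotientGroup.eq_one_iff]
    change π (k * q * k⁻¹ * q⁻¹) = 1
    rw [map_mul, map_mul, map_mul, map_inv, map_inv, h1, mul_inv_cancel]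
  have hKQ : K ≤ Q := by
    haveI : K.Normal := MonoidHom.normal_ker _
    refine Cores.le_pCore (Balance.isPGroup_of_forall_coprime fun k hk hcop => ?_)
    have hcop' : (Nat.card ↥(Subgroup.zpowers k)).Coprime (Nat.card ↥(frattini ↥Q)) := by
      obtain ⟨m, hm⟩ := IsPGroup.iff_card.1 (hQp.to_subgroup (frattini ↥Q))
      rw [Nat.card_zpowers, hm]
      exact hcop.pow_right m
    have h1 := Coprime.le_centralizer_of_frattini (A := Subgroup.zpowers k) (K := Q)
      (by rw [Subgroup.normalizer_eq_top]; exact le_top) hcop'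
      (fun a ha q hq => hKmem a ((Subgroup.zpowers_le.2 hk) ha) q hq)
    have h2 : k ∈ Q := hc (h1 (Subgroup.mem_zpowers k))
    obtain ⟨m, hm⟩ := hQp ⟨k, h2⟩
    exact orderOf_eq_one_iff.1 (Nat.eq_one_of_dvd_coprimes (hcop.pow_right m) dvd_rfl
      (orderOf_dvd_of_pow_eq_one (congrArg Subtype.val hm)))
  have hker : Nat.card ↥f.ker ≤ 2 := by
    by_contra hgt
    push Not at hgt
    haveI := Fintype.ofFinite ↥f.ker
    rw [Nat.card_eq_fintype_card, Fintype.two_lt_card_iff] at hgt
    obtain ⟨a, b, c, hab, hac, hbc⟩ := hgt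
    have key : ∀ a b : ↥f.ker, a ≠ 1 → b ≠ 1 → a = b := by
      intro a b ha hb
      have hmem : ∀ a : ↥f.ker, ((a : ↥E) : H) ∈ Q := fun a => hKQ (by
        rw [hK, MonoidHom.mem_ker]
        exact htoPerm ((MonoidHom.mem_ker.1 a.2).trans (map_one _).symm))
      have hord : ∀ a : ↥f.ker, a ≠ 1 → orderOf (⟨_, hmem a⟩ : ↥Q) = 2 := fun a ha => by
        rw [← Subgroup.orderOf_coe]
        exact PGroups.elemAb_orderOf hE (a : ↥E).2 fun h => ha (Subtype.ext (Subtype.ext h))
      exact Subtype.ext (Subtype.ext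
        (congrArg (fun q : ↥Q => (q : H)) (huniq _ _ (hord a ha) (hord b hb))))
    by_cases ha : a = 1
    · exact hbc (key b c (fun h => hab (ha.trans h.symm)) (fun h => hac (ha.trans h.symm)))
    · by_cases hb : b = 1
      · exact hac (key a c ha (fun h => hbc (hb.trans h.symm)))
      · exact hab (key a b ha hb)
  have hrange : Nat.card ↥f.range ≤ 2 := by
    have hp : IsPGroup 2 ↥f.range := by
      rw [MonoidHom.range_eq_map]
      exact ((PGroups.elemAb_isPGroup hE).to_subgroup ⊤).map _
    obtain ⟨m, hm⟩ := IsPGroup.iff_card.1 hp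
    have hdvd : Nat.card ↥f.range ∣ 6 := by
      refine (Subgroup.card_subgroup_dvd_card _).trans ?_
      rw [Nat.card_perm]
      refine dvd_trans ?_ (show Nat.factorial 3 ∣ 6 by decide)
      refine Nat.factorial_dvd_factorial ?_
      have h1 : Nat.card ↥V = Nat.card X + 1 := by
        haveI := Fintype.ofFinite ↥V
        rw [Nat.card_eq_fintype_card, Nat.card_eq_fintype_card, Fintype.card_subtype_compl,
          Fintype.card_subtype_eq]
        have := Fintype.card_pos (α := ↥V)
        omega
      omega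
    rw [hm] at hdvd ⊢
    rcases m with _ | _ | m
    · norm_num
    · norm_num
    · exfalso
      have := (Nat.dvd_trans (pow_dvd_pow 2 (show 2 ≤ m + 2 by omega)) hdvd)
      norm_num at this
  calc Nat.card ↥E = Nat.card ↥f.ker * Nat.card ↥f.range := by
        rw [← Subgroup.index_ker, Subgroup.card_mul_index]
    _ ≤ 2 * 2 := Nat.mul_le_mul hker hrange
    _ < 8 := by norm_num

end Cfsg.Agent.Lib.BenderDeps.CoreRankOne
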