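import Cfsg.Agent.Lib.BenderDeps.Row3109
import Cfsg.Agent.Lib.BenderDeps.CoreRankOne

/-!
# Trivial cores from 2-constrained involution centralizers

If the centralizers of involutions are 2-constrained and their cores generate one subgroup of odd
order over each Sylow 2-subgroup, then these cores are trivial, given the core lemma for strongly
embedded subgroups.
-/

set_option autoImplicit false
set_option linter.style.haveILetI false

open Cfsg
open Cfsg.Agent.Lib
open Cfsg.Agent.Lib.BenderDeps.Row3109 (CoreOfStronglyEmbedded invol_eq not_rankLE_one mem_sylow_of_centralizes)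
open scoped Pointwise

namespace Cfsg.Agent.Lib.BenderDeps.CoresTrivial

universe u

variable {G : Type u} [Group G] [Finite G] [Fact (Nat.Prime 2)]

/-- A central involution of a Sylow 2-subgroup. -/
theorem exists_central_involution {R : Sylow 2 G} (hR : ¬ Cfsg.PRankLE 2 1 ↥(R : Subgroup G)) :
    ∃ z ∈ (R : Subgroup G), z ^ 2 = 1 ∧ z ≠ 1 ∧ ∀ s ∈ (R : Subgroup G), s * z = z * s := by
  haveI : Nontrivial ↥(R : Subgroup G) := by
    by_contra hnt
    rw [not_nontrivial_iff_subsingleton] at hnt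
    refine hR fun E _ _ => ?_
    rw [Nat.card_unique]
    norm_num
  haveI := R.2.center_nontrivial
  obtain ⟨k, hk⟩ := IsPGroup.iff_card.1 (R.2.to_subgroup (Subgroup.center ↥(R : Subgroup G)))
  have hdvd : 2 ∣ Nat.card ↥(Subgroup.center ↥(R : Subgroup G)) := by
    rcases k with _ | k
    · have := Finite.one_lt_card (α := ↥(Subgroup.center ↥(R : Subgroup G)))
      rw [hk, pow_zero] at this
      omega
    · rw [hk]; exact dvd_pow_self 2 (Nat.succ_ne_zero k)
  obtain ⟨z, hz⟩ := exists_prime_orderOf_dvd_card' 2 hdvd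
  rw [← Subgroup.orderOf_coe, ← Subgroup.orderOf_coe] at hz
  refine ⟨_, (z : ↥(R : Subgroup G)).2, ?_, fun h => ?_, fun s hs => ?_⟩
  · exact orderOf_dvd_iff_pow_eq_one.1 hz.dvd
  · rw [h, orderOf_one] at hz; omega
  · exact congrArg Subtype.val (Subgroup.mem_center_iff.1 z.2 ⟨s, hs⟩)

/-- In a 2-constrained centralizer with an elementary abelian subgroup of order 8, the Sylow
subgroup of `O_{2',2}` has 2-rank at least 2. -/
theorem false_of_rankOne {C : Subgroup G} (hCc : Cfsg.IsPConstrained 2 ↥C)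
    (P' : Sylow 2 ↥(pPrimePCore 2 ↥C))
    (hrk : Cfsg.PRankLE 2 1
      ↥(((P' : Subgroup ↥(pPrimePCore 2 ↥C)).map (pPrimePCore 2 ↥C).subtype).map C.subtype))
    {E : Subgroup G} (hEC : E ≤ C) (hE : IsElementaryAbelian 2 E) (h8 : 8 ≤ Nat.card ↥E) : False := by
  set PC := (P' : Subgroup ↥(pPrimePCore 2 ↥C)).map (pPrimePCore 2 ↥C).subtype with hPC
  set P := PC.map C.subtype with hP
  set π := QuotientGroup.mk' (pPrimeCore 2 ↥C) with hπ
  have hcen := PSolvable.isPConstrained_iff.1 hCc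
  have hmap : PC.map π = pCore 2 (↥C ⧸ pPrimeCore 2 ↥C) := PSolvable.map_sylow_pPrimePCore P'
  have hinj : ∀ x : ↥C, IsPGroup 2 ↥(Subgroup.zpowers x) → π x = 1 → x = 1 := by
    intro x hx h
    obtain ⟨n, hn⟩ := IsPGroup.iff_card.1 hx
    rw [Nat.card_zpowers] at hn
    have hxO : x ∈ pPrimeCore 2 ↥C := (QuotientGroup.eq_one_iff x).1 h
    have h1 : orderOf x ∣ Nat.card ↥(pPrimeCore 2 ↥C) := by
      have := orderOf_dvd_natCard (⟨x, hxO⟩ : ↥(pPrimeCore 2 ↥C))
      rwa [← Subgroup.orderOf_coe] at this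
    rw [← orderOf_eq_one_iff]
    refine Nat.eq_one_of_dvd_coprimes ?_ h1 dvd_rfl
    rw [hn]
    exact (Cores.pPrimeCore_coprime (G := ↥C) 2).pow_right n
  have hPCp : IsPGroup 2 ↥PC := P'.2.map _
  have huniqP : ∀ u v : ↥PC, orderOf u = 2 → orderOf v = 2 → u = v := by
    intro u v hu hv
    haveI : Nontrivial ↥PC := ⟨⟨u, 1, fun h => by rw [h, orderOf_one] at hu; omega⟩⟩
    haveI := hPCp.center_nontrivial
    obtain ⟨k, hk⟩ := IsPGroup.iff_card.1 (hPCp.to_subgroup (Subgroup.center ↥PC))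
    have hdvd : 2 ∣ Nat.card ↥(Subgroup.center ↥PC) := by
      rcases k with _ | k
      · have := Finite.one_lt_card (α := ↥(Subgroup.center ↥PC))
        rw [hk, pow_zero] at this
        omega
      · rw [hk]; exact dvd_pow_self 2 (Nat.succ_ne_zero k)
    obtain ⟨z, hz⟩ := exists_prime_orderOf_dvd_card' 2 hdvd
    have hz' : orderOf (z : ↥PC) = 2 := by rw [Subgroup.orderOf_coe]; exact hz
    have key : ∀ w : ↥PC, orderOf w = 2 → w = (z : ↥PC) := by
      intro w hw
      have hco : ∀ a : ↥PC, orderOf a = 2 → ((a : ↥C) : G) ∈ P ∧ ((a : ↥C) : G) ^ 2 = 1 ∧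
          ((a : ↥C) : G) ≠ 1 := fun a ha => by
        refine ⟨⟨_, a.2, rfl⟩, ?_, fun h => ?_⟩
        · exact congrArg (fun a : ↥PC => ((a : ↥C) : G)) (ha ▸ pow_orderOf_eq_one a : a ^ 2 = 1)
        · rw [show a = 1 from Subtype.ext (Subtype.ext h), orderOf_one] at ha; omega
      obtain ⟨w1, w2, w3⟩ := hco w hw
      obtain ⟨z1, z2, z3⟩ := hco z hz'
      exact Subtype.ext (Subtype.ext (invol_eq hrk w1 z1 w2 z2 w3 z3
        (congrArg (fun a : ↥PC => ((a : ↥C) : G)) (Subgroup.mem_center_iff.1 z.2 w))))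
    rw [key u hu, key v hv]
  set f := π.subgroupMap PC
  have hfinj : Function.Injective f := by
    rw [← MonoidHom.ker_eq_bot_iff, eq_bot_iff]
    intro x hx
    refine Subgroup.mem_bot.2 (Subtype.ext (hinj x ?_ (congrArg Subtype.val (MonoidHom.mem_ker.1 hx))))
    exact hPCp.to_le (Subgroup.zpowers_le.2 x.2)
  let e : ↥PC ≃* ↥(pCore 2 (↥C ⧸ pPrimeCore 2 ↥C)) :=
    (MulEquiv.ofBijective f ⟨hfinj, π.subgroupMap_surjective PC⟩).trans (MulEquiv.subgroupCongr hmap)
  have huniq : ∀ u v : ↥(pCore 2 (↥C ⧸ pPrimeCore 2 ↥C)), orderOf u = 2 → orderOf v = 2 → u = v := by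
    intro u v hu hv
    exact e.symm.injective (huniqP _ _ ((e.symm.orderOf_eq u).trans hu) ((e.symm.orderOf_eq v).trans hv))
  have hE' : IsElementaryAbelian 2 ((E.subgroupOf C).map π) :=
    PGroups.elemAb_map π (PGroups.elemAb_subgroupOf hE C)
  have hlt := CoreRankOne.card_elemAb_lt_eight hcen huniq hE'
  have hcard : Nat.card ↥((E.subgroupOf C).map π) = Nat.card ↥E := by
    rw [← Nat.card_congr (Subgroup.subgroupOfEquivOfLe hEC).toEquiv]
    refine (Nat.card_congr (Equiv.ofBijective _ ⟨?_, π.subgroupMap_surjective (E.subgroupOf C)⟩)).symm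
    rw [← MonoidHom.ker_eq_bot_iff, eq_bot_iff]
    intro x hx
    refine Subgroup.mem_bot.2 (Subtype.ext (hinj x ?_ (congrArg Subtype.val (MonoidHom.mem_ker.1 hx))))
    exact (PGroups.elemAb_isPGroup (PGroups.elemAb_subgroupOf hE C)).to_le (Subgroup.zpowers_le.2 x.2)
  omega

/-- The main reduction. -/
theorem cores_eq_bot (hBender : CoreOfStronglyEmbedded.{u}) (hcoreG : oddCore G = ⊥)
    (hcon : ∀ t : G, orderOf t = 2 → Cfsg.IsPConstrained 2 ↥(Subgroup.centralizer ({t} : Set G)))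
    (hE8 : ∀ R : Sylow 2 G, ∃ E : Subgroup G,
      E ≤ (R : Subgroup G) ∧ IsElementaryAbelian 2 E ∧ 8 ≤ Nat.card ↥E)
    (hgen : ∀ R : Sylow 2 G, ∃ W : Subgroup G, Odd (Nat.card ↥W) ∧
      ∀ B : Subgroup G, B ≤ (R : Subgroup G) → ¬ Cfsg.PRankLE 2 1 ↥B →
        W = (⨆ b : {b : G // b ∈ B ∧ b ≠ 1}, Cfsg.centralizerPPrimeCore 2 (b : G)) ∧
        Subgroup.normalizer (B : Set G) ≤ Subgroup.normalizer (W : Set G)) :
    ∀ t : G, orderOf t = 2 → Cfsg.centralizerPPrimeCore 2 t = ⊥ := by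
  choose W hWodd hW using hgen
  have hrkR : ∀ R : Sylow 2 G, ¬ Cfsg.PRankLE 2 1 ↥(R : Subgroup G) := fun R => by
    obtain ⟨E, hER, hE, h8⟩ := hE8 R
    exact not_rankLE_one hER hE (by omega)
  have hle : ∀ (R : Sylow 2 G) (b : G), b ∈ (R : Subgroup G) → b ≠ 1 →
      centralizerPPrimeCore 2 b ≤ W R := fun R b hb hb1 => by
    rw [(hW R _ le_rfl (hrkR R)).1]
    exact le_iSup (fun b : {b : G // b ∈ (R : Subgroup G) ∧ b ≠ 1} =>
      centralizerPPrimeCore 2 (b : G)) ⟨b, hb, hb1⟩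
  -- equivariance
  have hmapW : ∀ (g : G) (R : Sylow 2 G),
      (W R).map (MulAut.conj g).toMonoidHom ≤ W (g • R) := by
    intro g R
    rw [(hW R _ le_rfl (hrkR R)).1, Subgroup.map_iSup]
    refine iSup_le fun b => ?_
    rw [← Balance.centralizerPPrimeCore_conj]
    refine hle _ _ ?_ fun h => b.2.2 (by simpa using h)
    rw [Sylow.coe_subgroup_smul]
    exact Subgroup.smul_mem_pointwise_smul (a := MulAut.conj g) (b : G) (R : Subgroup G) b.2.1
  have hWconj : ∀ (g : G) (R : Sylow 2 G),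
      W (g • R) = (W R).map (MulAut.conj g).toMonoidHom := by
    intro g R
    refine le_antisymm (fun x hx => ?_) (hmapW g R)
    have h1 := hmapW g⁻¹ (g • R) ⟨x, hx, rfl⟩
    rw [inv_smul_smul] at h1
    exact ⟨_, h1, by simp [MulAut.conj_apply, mul_assoc]⟩
  -- Sylow subgroups sharing an involution differ by an element centralizing it
  have hshift : ∀ u : G, orderOf u = 2 → ∀ Q Q' : Sylow 2 G, u ∈ (Q : Subgroup G) →
      u ∈ (Q' : Subgroup G) → ∃ c ∈ Subgroup.centralizer ({u} : Set G),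
        W Q' = W (c • Q) := by
    intro u hu Q Q' hQ hQ'
    set C := Subgroup.centralizer ({u} : Set G)
    have hu1 : u ≠ 1 := fun h => by rw [h, orderOf_one] at hu; omega
    have hrk : ∀ T : Sylow 2 G, u ∈ (T : Subgroup G) →
        ¬ Cfsg.PRankLE 2 1 ↥((T : Subgroup G) ⊓ C) := by
      intro T hT hrk
      obtain ⟨z', hz'T, hz'2, hz'1, hz'c⟩ := exists_central_involution (hrkR T)
      obtain rfl : u = z' := invol_eq hrk ⟨hT, Subgroup.mem_centralizer_singleton_iff.2 rfl⟩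
        ⟨hz'T, Subgroup.mem_centralizer_singleton_iff.2 (hz'c u hT).symm⟩
        (hu ▸ pow_orderOf_eq_one u) hz'2 hu1 hz'1 (hz'c u hT)
      obtain ⟨E, hET, hE, hE8⟩ := hE8 T
      exact not_rankLE_one (B := (T : Subgroup G) ⊓ C)
        (fun a ha => ⟨hET ha, Subgroup.mem_centralizer_singleton_iff.2 (hz'c a (hET ha))⟩)
        hE (by omega) hrk
    obtain ⟨Q₁, hQ₁⟩ := (((Q.2.to_le inf_le_left) : IsPGroup 2 ↥((Q : Subgroup G) ⊓ C)).comap_subtype
      (K := C)).exists_le_sylow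
    obtain ⟨Q₂, hQ₂⟩ := (((Q'.2.to_le inf_le_left) : IsPGroup 2 ↥((Q' : Subgroup G) ⊓ C)).comap_subtype
      (K := C)).exists_le_sylow
    obtain ⟨T, hT⟩ := (Q₂.2.map C.subtype).exists_le_sylow
    obtain ⟨c, hc⟩ := MulAction.exists_smul_eq (↥C) Q₁ Q₂
    have e1 : W Q' = W T := by
      have hsub : (Q' : Subgroup G) ⊓ C ≤ (T : Subgroup G) := fun x hx =>
        hT ⟨⟨x, hx.2⟩, hQ₂ hx, rfl⟩
      rw [(hW Q' _ inf_le_left (hrk Q' hQ')).1, (hW T _ hsub (hrk Q' hQ')).1]
    have e2 : W ((c : G) • Q) = W T := by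
      have hsub : ((Q : Subgroup G) ⊓ C).map (MulAut.conj (c : G)).toMonoidHom ≤ (T : Subgroup G) := by
        rintro _ ⟨x, hx, rfl⟩
        refine hT ⟨c * ⟨x, hx.2⟩ * c⁻¹, ?_, rfl⟩
        rw [← hc, Sylow.coe_subgroup_smul]
        exact Subgroup.smul_mem_pointwise_smul (a := MulAut.conj c) (⟨x, hx.2⟩ : ↥C)
          (Q₁ : Subgroup ↥C) (hQ₁ hx)
      have hsub' : ((Q : Subgroup G) ⊓ C).map (MulAut.conj (c : G)).toMonoidHom ≤
          (((c : G) • Q : Sylow 2 G) : Subgroup G) := by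
        rintro _ ⟨x, hx, rfl⟩
        rw [Sylow.coe_subgroup_smul]
        exact Subgroup.smul_mem_pointwise_smul (a := MulAut.conj (c : G)) x (Q : Subgroup G) hx.1
      have hr : ¬ Cfsg.PRankLE 2 1
          ↥(((Q : Subgroup G) ⊓ C).map (MulAut.conj (c : G)).toMonoidHom) := by
        have h := hrk Q hQ
        intro h'
        unfold PRankLE at h h'
        push Not at h
        obtain ⟨E, hEc, hE2, hEcard⟩ := h
        let φ : ↥((Q : Subgroup G) ⊓ C) →*
            ↥(((Q : Subgroup G) ⊓ C).map (MulAut.conj (c : G)).toMonoidHom) :=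
          (MulAut.conj (c : G)).toMonoidHom.subgroupMap _
        have hφ : Function.Injective φ := fun a b hab =>
          Subtype.ext ((MulAut.conj (c : G)).injective (congrArg Subtype.val hab))
        have hEe : IsElementaryAbelian 2 E := ⟨hEc, hE2⟩
        have := h' (E.map φ) (PGroups.elemAb_map φ hEe).1
          (fun a ha => PGroups.elemAb_pow (PGroups.elemAb_map φ hEe) ha)
        rw [Subgroup.card_map_of_injective hφ] at this
        omega
      rw [(hW _ _ hsub' hr).1, (hW T _ hsub hr).1]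
    exact ⟨(c : G), c.2, e1.trans e2.symm⟩
  -- the key local fact
  have hkey : ∀ t : G, orderOf t = 2 → ∀ R : Sylow 2 G, t ∈ (R : Subgroup G) →
      Subgroup.centralizer ({t} : Set G) ≤ Subgroup.normalizer ((W R : Subgroup G) : Set G) := by
    intro t ht R htR
    set C := Subgroup.centralizer ({t} : Set G) with hC
    have ht1 : t ≠ 1 := fun h => by rw [h, orderOf_one] at ht; omega
    have ht2 : t ^ 2 = 1 := ht ▸ pow_orderOf_eq_one t
    have hzt : IsPGroup 2 ↥(Subgroup.zpowers t) :=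
      IsPGroup.of_card (n := 1) (by rw [Nat.card_zpowers, ht, pow_one])
    have hCc : Cfsg.IsPConstrained 2 ↥C := hcon t ht
    obtain ⟨P'⟩ := (inferInstance : Nonempty (Sylow 2 ↥(pPrimePCore 2 ↥C)))
    set PC : Subgroup ↥C :=
      (P' : Subgroup ↥(pPrimePCore 2 ↥C)).map (pPrimePCore 2 ↥C).subtype with hPC
    set P : Subgroup G := PC.map C.subtype with hP
    have hPCp : IsPGroup 2 ↥PC := P'.2.map _
    have hPp : IsPGroup 2 ↥P := hPCp.map _
    have hPC' : P ≤ C := Subgroup.map_subtype_le _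
    have hPC2 : ∀ x : ↥C, (x : G) ∈ P ↔ x ∈ PC := fun x =>
      Subgroup.mem_map_iff_mem C.subtype_injective
    have hPQ : ∀ x : ↥C, x ∈ PC → x ∈ pPrimePCore 2 ↥C := fun x hx =>
      Subgroup.map_subtype_le _ hx
    have hCcomm : ∀ x : ↥C, (x : G) * t = t * x := fun x =>
      Subgroup.mem_centralizer_singleton_iff.1 x.2
    have hCmem : ∀ g : G, g * t = t * g → g ∈ C := fun g hg =>
      Subgroup.mem_centralizer_singleton_iff.2 hg
    have hself : ∀ g : G, g * t = t * g → IsPGroup 2 ↥(Subgroup.zpowers g) →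
        (∀ p ∈ P, g * p = p * g) → g ∈ P := by
      intro g hgt hg2 hgP
      set gC : ↥C := ⟨g, hCmem g hgt⟩ with hgC
      have hgQ : gC ∈ pPrimePCore 2 ↥C := by
        refine hCc P' (Subgroup.mem_centralizer_iff.2 fun p hp => Subtype.ext ?_)
        exact (hgP p ⟨p, hp, rfl⟩).symm
      have h2 : IsPGroup 2 ↥(Subgroup.zpowers (⟨gC, hgQ⟩ : ↥(pPrimePCore 2 ↥C))) := by
        obtain ⟨n, hn⟩ := IsPGroup.iff_card.1 hg2
        refine IsPGroup.of_card (n := n) ?_
        rw [Nat.card_zpowers, ← Subgroup.orderOf_coe, ← Subgroup.orderOf_coe]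
        rwa [Nat.card_zpowers] at hn
      have h3 := mem_sylow_of_centralizes P' h2 fun y hy => Subtype.ext (Subtype.ext
        (hgP _ ⟨_, ⟨y, hy, rfl⟩, rfl⟩).symm)
      exact ⟨gC, ⟨_, h3, rfl⟩, rfl⟩
    have htP : t ∈ P := hself t rfl hzt fun p hp => (hCcomm ⟨p, hPC' hp⟩).symm
    -- a Sylow subgroup of `G` containing a Sylow subgroup of `C` above `P`
    obtain ⟨R0, hR0⟩ := hPCp.exists_le_sylow
    obtain ⟨R1, hR1⟩ := (R0.2.map C.subtype).exists_le_sylow
    have hPR1 : P ≤ (R1 : Subgroup G) := fun x hx => hR1 (Subgroup.map_mono hR0 hx)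
    have htR1 : t ∈ (R1 : Subgroup G) := hPR1 htP
    have hPrk : ¬ Cfsg.PRankLE 2 1 ↥P := by
      intro hrk
      obtain ⟨z, hzR, hz2, hz1, hzc⟩ := exists_central_involution (hrkR R1)
      have hzP : z ∈ P := hself z (hzc t htR1).symm (R1.2.to_le (Subgroup.zpowers_le.2 hzR))
        fun p hp => (hzc p (hPR1 hp)).symm
      obtain rfl : t = z := invol_eq hrk htP hzP ht2 hz2 ht1 hz1 (hzc t htR1)
      obtain ⟨E, hER, hE, hE8⟩ := hE8 R1
      exact false_of_rankOne hCc P' hrk (fun e he => hCmem e (hzc e (hER he))) hE hE8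
    have hC1 : C ≤ Subgroup.normalizer ((W R1 : Subgroup G) : Set G) := by
      have htop : (⊤ : Subgroup ↥C) ≤
          pPrimeCore 2 ↥C ⊔ Subgroup.normalizer (PC : Set ↥C) := by
        rw [← Sylow.normalizer_sup_eq_top P']
        refine sup_le le_sup_right ?_
        have h1 : (pPrimePCore 2 ↥C).map (QuotientGroup.mk' (pPrimeCore 2 ↥C)) ≤
            PC.map (QuotientGroup.mk' (pPrimeCore 2 ↥C)) := by
          rw [PSolvable.map_pPrimePCore, hPC, PSolvable.map_sylow_pPrimePCore]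
        refine (Subgroup.map_le_iff_le_comap.1 h1).trans ?_
        rw [Subgroup.comap_map_eq, QuotientGroup.ker_mk']
        exact sup_le (Subgroup.le_normalizer.trans le_sup_right) le_sup_left
      intro g hg
      have h1 : (⟨g, hg⟩ : ↥C) ∈ pPrimeCore 2 ↥C ⊔ Subgroup.normalizer (PC : Set ↥C) :=
        htop (Subgroup.mem_top _)
      have h2 := Subgroup.mem_map_of_mem C.subtype h1
      rw [Subgroup.map_sup] at h2
      refine (sup_le ?_ ?_ : _ ⊔ _ ≤ Subgroup.normalizer ((W R1 : Subgroup G) : Set G)) h2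
      · exact (hle R1 t htR1 ht1).trans Subgroup.le_normalizer
      · exact (Subgroup.le_normalizer_map _).trans (hW R1 P hPR1 hPrk).2
    -- any other Sylow subgroup containing `t` gives the same subgroup
    obtain ⟨c, hc, hcW⟩ := hshift t ht R1 R htR1 htR
    have hceq : W R = W R1 := by
      rw [hcW, hWconj]
      exact Subgroup.mem_normalizer_iff_map_conj_eq.1 (hC1 hc)
    rw [hceq]
    exact hC1
  intro t ht
  obtain ⟨R, hR⟩ := (IsPGroup.of_card (n := 1) (by rw [Nat.card_zpowers, ht, pow_one]) :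
    IsPGroup 2 ↥(Subgroup.zpowers t)).exists_le_sylow
  have ht1 : t ≠ 1 := fun h => by rw [h, orderOf_one] at ht; omega
  obtain ⟨S⟩ := (inferInstance : Nonempty (Sylow 2 G))
  by_cases hW0 : W S = ⊥
  · rw [eq_bot_iff]
    obtain ⟨g, hg⟩ := MulAction.exists_smul_eq G S R
    refine (hle R t (hR (Subgroup.mem_zpowers t)) ht1).trans ?_
    rw [← hg, hWconj, hW0, Subgroup.map_bot]
  exfalso
  set M := Subgroup.normalizer ((W S : Subgroup G) : Set G) with hM
  have hMtop : M ≠ ⊤ := by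
    intro h
    haveI := Subgroup.normalizer_eq_top_iff.1 h
    refine hW0 (eq_bot_iff.2 ?_)
    rw [← hcoreG]
    exact PSolvable.le_pPrimeCore (inferInstance : (W S).Normal) (Nat.coprime_two_right.2 (hWodd S))
  have hSM : (S : Subgroup G) ≤ M :=
    Subgroup.le_normalizer.trans (hW S _ le_rfl (hrkR S)).2
  have hMeven : Even (Nat.card ↥M) := by
    obtain ⟨E, hES, hE, h8⟩ := hE8 S
    obtain ⟨m, hm⟩ := IsPGroup.iff_card.1 (PGroups.elemAb_isPGroup hE)
    have hm0 : m ≠ 0 := fun h => by rw [hm, h, pow_zero] at h8; omega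
    exact even_iff_two_dvd.2 (((dvd_pow_self 2 hm0).trans (dvd_of_eq hm.symm)).trans
      (Subgroup.card_dvd_of_le (hES.trans hSM)))
  -- every involution of `M` lies in a Sylow subgroup with the same `W`
  have hsame : ∀ u ∈ M, orderOf u = 2 → ∃ Q : Sylow 2 G, u ∈ (Q : Subgroup G) ∧ W Q = W S := by
    intro u hu hu2
    have hpu : IsPGroup 2 ↥(Subgroup.zpowers (⟨u, hu⟩ : ↥M)) :=
      IsPGroup.of_card (n := 1) (by
        rw [Nat.card_zpowers, ← Subgroup.orderOf_coe, pow_one]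
        exact hu2)
    obtain ⟨Q0, hQ0⟩ := hpu.exists_le_sylow
    obtain ⟨m, hm⟩ := MulAction.exists_smul_eq (↥M) (S.subtype hSM) Q0
    refine ⟨(m : G) • S, ?_, ?_⟩
    · have h1 : (⟨u, hu⟩ : ↥M) ∈ (Q0 : Subgroup ↥M) := hQ0 (Subgroup.mem_zpowers _)
      rw [← hm, Sylow.coe_subgroup_smul, Subgroup.mem_pointwise_smul_iff_inv_smul_mem,
        Sylow.coe_subtype, Subgroup.mem_subgroupOf] at h1
      rw [Sylow.coe_subgroup_smul, Subgroup.mem_pointwise_smul_iff_inv_smul_mem]
      exact h1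
    · rw [hWconj]
      exact Subgroup.mem_normalizer_iff_map_conj_eq.1 m.2
  have hshare : ∀ u : G, orderOf u = 2 → ∀ Q Q' : Sylow 2 G, u ∈ (Q : Subgroup G) →
      u ∈ (Q' : Subgroup G) → W Q = W Q' := by
    intro u hu Q Q' hQ hQ'
    obtain ⟨c, hc, hcW⟩ := hshift u hu Q Q' hQ hQ'
    rw [hcW, hWconj]
    exact (Subgroup.mem_normalizer_iff_map_conj_eq.1 (hkey u hu Q hQ hc)).symm
  have hSE : Cfsg.IsStronglyEmbedded M := by
    refine Involutions.StronglyEmbedded.of_forall_conj hMtop hMeven fun u hu hu2 g hg => ?_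
    obtain ⟨Q, hQu, hQW⟩ := hsame u hu hu2
    obtain ⟨Q', hQ'u, hQ'W⟩ := hsame _ hg ((Involutions.Basic.orderOf_conj_eq g u).trans hu2)
    have h1 : g * u * g⁻¹ ∈ ((g • Q : Sylow 2 G) : Subgroup G) := by
      rw [Sylow.coe_subgroup_smul]
      exact Subgroup.smul_mem_pointwise_smul (a := MulAut.conj g) u (Q : Subgroup G) hQu
    have h2 := hshare _ ((Involutions.Basic.orderOf_conj_eq g u).trans hu2) (g • Q) Q' h1 hQ'u
    rw [hWconj, hQW, hQ'W] at h2
    exact Subgroup.mem_normalizer_iff_map_conj_eq.2 h2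
  refine hW0 ?_
  have h1 : W S ≤ (oddCore ↥M).map M.subtype := by
    intro x hx
    have hxM : x ∈ M := Subgroup.le_normalizer hx
    refine ⟨⟨x, hxM⟩, ?_, rfl⟩
    refine PSolvable.le_pPrimeCore (N := (W S).subgroupOf M) Subgroup.normal_in_normalizer ?_ hx
    rw [Nat.card_congr (Subgroup.subgroupOfEquivOfLe Subgroup.le_normalizer).toEquiv,
      Nat.coprime_two_right]
    exact hWodd S
  rw [eq_bot_iff, ← hcoreG]
  exact h1.trans (hBender G M hSE)

end Cfsg.Agent.Lib.BenderDeps.CoresTrivial
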