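import Cfsg.Agent.Lib.FTDeps.Row3110
import Cfsg.Agent.Lib.BenderDeps.CoresTrivial
import Cfsg.Prelude.Def_CaseTheorems

/-!
# Cores over a Sylow 2-subgroup with connected commuting graph of four-groups

If involution centralizers have trivial 2-layer, the 2-rank is at least 3 and the four-groups of a
Sylow 2-subgroup form a connected graph, the cores of centralizers generate one odd subgroup.
-/

set_option autoImplicit false
set_option linter.style.haveILetI false

open Cfsg
open Cfsg.Agent.Lib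
open Cfsg.Agent.Lib.Balance (valueSup)
open scoped Pointwise

namespace Cfsg.Agent.Lib.BenderDeps.FourConnected

universe u

variable {G : Type u} [Group G]

theorem isKleinFour_of {U : Subgroup G} (h : IsElementaryAbelian 2 U) (h4 : Nat.card ↥U = 4) :
    IsKleinFour ↥U := by
  refine ⟨h4, ?_⟩
  have hdvd : Monoid.exponent ↥U ∣ 2 := Monoid.exponent_dvd_of_forall_pow_eq_one fun u =>
    Subtype.ext (by rw [Subgroup.coe_pow]; exact PGroups.elemAb_pow h u.2)
  rcases (Nat.dvd_prime Nat.prime_two).1 hdvd with h1 | h1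
  · exfalso
    haveI := Monoid.exp_eq_one_iff.1 h1
    rw [Nat.card_unique] at h4
    omega
  · exact h1

theorem elemAb_of_isKleinFour {U : Subgroup G} (h : IsKleinFour ↥U) :
    IsElementaryAbelian 2 U ∧ Nat.card ↥U = 4 := by
  refine ⟨⟨IsKleinFour.isMulCommutative, fun a ha => ?_⟩, h.card_four⟩
  have h1 := Monoid.pow_exponent_eq_one (⟨a, ha⟩ : ↥U)
  rw [h.exponent_two] at h1
  exact congrArg Subtype.val h1

theorem isKleinFour_map {H : Type*} [Group H] (f : G →* H) (hf : Function.Injective f)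
    {U : Subgroup G} (h : IsKleinFour ↥U) : IsKleinFour ↥(U.map f) := by
  obtain ⟨h1, h2⟩ := elemAb_of_isKleinFour h
  exact isKleinFour_of (PGroups.elemAb_map f h1) (by rw [Subgroup.card_map_of_injective hf, h2])

theorem isFourConnected_congr {H : Type*} [Group H] (e : G ≃* H) (h : Cfsg.IsFourConnected G) :
    Cfsg.IsFourConnected H := by
  intro U V hU hV
  have key := h (U.map e.symm.toMonoidHom) (V.map e.symm.toMonoidHom)
    (isKleinFour_map e.symm.toMonoidHom e.symm.injective hU)
    (isKleinFour_map e.symm.toMonoidHom e.symm.injective hV)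
  have := key.lift (fun A : Subgroup G => A.map e.toMonoidHom) (p := fun A B : Subgroup H =>
    IsKleinFour A ∧ IsKleinFour B ∧ ∀ a ∈ A, ∀ b ∈ B, a * b = b * a) ?_
  · have e1 : ∀ W : Subgroup H, (W.map e.symm.toMonoidHom).map e.toMonoidHom = W := by
      intro W
      rw [Subgroup.map_map]
      convert Subgroup.map_id W
      ext x
      simp
    simpa only [Function.onFun, e1] using this
  · rintro A B ⟨hA, hB, hc⟩
    refine ⟨isKleinFour_map _ e.injective hA, isKleinFour_map _ e.injective hB, ?_⟩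
    rintro _ ⟨a, ha, rfl⟩ _ ⟨b, hb, rfl⟩
    rw [← map_mul, ← map_mul, hc a ha b hb]

variable [Finite G] [Fact (Nat.Prime 2)]

/-- A group of 2-rank at least 3 has elementary abelian subgroups of order 8 in each Sylow subgroup. -/
theorem exists_eight (hrk : ¬ Cfsg.PRankLE 2 2 G) (R : Sylow 2 G) :
    ∃ E : Subgroup G, E ≤ (R : Subgroup G) ∧ IsElementaryAbelian 2 E ∧ 8 ≤ Nat.card ↥E := by
  unfold PRankLE at hrk
  push Not at hrk
  obtain ⟨E, hEc, hE2, hEcard⟩ := hrk
  have hE : IsElementaryAbelian 2 E := ⟨hEc, hE2⟩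
  obtain ⟨m, hm⟩ := PGroups.elemAb_card_eq_pow hE
  have h8 : 8 ≤ Nat.card ↥E := by
    rw [hm] at hEcard ⊢
    exact le_trans (by norm_num) (Nat.pow_le_pow_right two_pos
      ((Nat.pow_lt_pow_iff_right (by norm_num)).1 hEcard : 3 ≤ m))
  obtain ⟨T, hT⟩ := (PGroups.elemAb_isPGroup hE).exists_le_sylow
  obtain ⟨g, hg⟩ := MulAction.exists_smul_eq G T R
  refine ⟨E.map (MulAut.conj g).toMonoidHom, ?_, PGroups.elemAb_conj g hE, ?_⟩
  · rw [← hg, Sylow.coe_subgroup_smul]
    rintro _ ⟨x, hx, rfl⟩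
    exact Subgroup.smul_mem_pointwise_smul (a := MulAut.conj g) x (T : Subgroup G) (hT hx)
  · rw [Subgroup.card_map_of_injective (MulAut.conj g).injective]
    exact h8

theorem cores_generate (hFT : FTDeps.Basic.OddOrderSolvable.{u})
    (hL : ∀ b : G, orderOf b = 2 → pLayer 2 ↥(Subgroup.centralizer ({b} : Set G)) = ⊥)
    (hrk : ¬ Cfsg.PRankLE 2 2 G) (S : Sylow 2 G) (hS : Cfsg.IsFourConnected ↥(S : Subgroup G))
    (R : Sylow 2 G) :
    ∃ W : Subgroup G, Odd (Nat.card ↥W) ∧
      ∀ B : Subgroup G, B ≤ (R : Subgroup G) → ¬ Cfsg.PRankLE 2 1 ↥B →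
        W = (⨆ b : {b : G // b ∈ B ∧ b ≠ 1}, Cfsg.centralizerPPrimeCore 2 (b : G)) ∧
        Subgroup.normalizer (B : Set G) ≤ Subgroup.normalizer (W : Set G) := by
  have hR : Cfsg.IsFourConnected ↥(R : Subgroup G) := isFourConnected_congr (S.equiv R) hS
  obtain ⟨A, hAR, hA, hA8⟩ := exists_eight hrk R
  set θ : G → Subgroup G := fun x : G => centralizerPPrimeCore 2 x with hθ
  set W := valueSup θ A with hW
  have hkey := fun {E B : Subgroup G} (hB : IsElementaryAbelian 2 B) (h3 : 8 ≤ Nat.card ↥B)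
    (hEB : E ≤ B) (h2 : 4 ≤ Nat.card ↥E) =>
      FTDeps.Row3110.valueSup_eq_of_le hFT hL hB h3 hEB h2
  -- the value is constant on the connected graph of four-groups
  have hchain : ∀ U V : Subgroup ↥(R : Subgroup G), IsKleinFour ↥U → IsKleinFour ↥V →
      valueSup θ (U.map (R : Subgroup G).subtype) = valueSup θ (V.map (R : Subgroup G).subtype) := by
    intro U V hU hV
    have h := hR U V hU hV
    clear hU hV
    induction h with
    | refl => rfl
    | @tail P Q _ h ih =>
      refine ih.trans ?_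
      obtain ⟨hP, hPc⟩ := elemAb_of_isKleinFour (isKleinFour_map _ (R : Subgroup G).subtype_injective h.1)
      obtain ⟨hQ, hQc⟩ := elemAb_of_isKleinFour (isKleinFour_map _ (R : Subgroup G).subtype_injective h.2.1)
      have hs := PGroups.elemAb_sup hP hQ (by
        rintro _ ⟨a, ha, rfl⟩ _ ⟨b, hb, rfl⟩
        rw [← map_mul, ← map_mul, h.2.2 a ha b hb])
      set P' := P.map (R : Subgroup G).subtype with hP'
      set Q' := Q.map (R : Subgroup G).subtype with hQ'
      by_cases h8 : 8 ≤ Nat.card ↥(P' ⊔ Q' : Subgroup G)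
      · rw [(hkey hs h8 le_sup_left hPc.ge).1, (hkey hs h8 le_sup_right hQc.ge).1]
      · obtain ⟨m, hm⟩ := PGroups.elemAb_card_eq_pow hs
        have hle : Nat.card ↥(P' ⊔ Q' : Subgroup G) ≤ 4 := by
          rw [hm] at h8 ⊢
          exact le_trans (Nat.pow_le_pow_right two_pos (by
            by_contra hm2
            exact h8 (le_trans (by norm_num)
              (Nat.pow_le_pow_right two_pos (by omega : 3 ≤ m))) : m ≤ 2)) (by norm_num)
        have e1 : P' = P' ⊔ Q' := Subgroup.eq_of_le_of_card_ge le_sup_left (hle.trans hPc.ge)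
        have e2 : Q' = P' ⊔ Q' := Subgroup.eq_of_le_of_card_ge le_sup_right (hle.trans hQc.ge)
        rw [e1.trans e2.symm]
  obtain ⟨F₀, hF₀A, hF₀, hF₀c⟩ := PGroups.elemAb_exists_le_card hA (k := 2) (by omega)
  have hcast : ∀ F : Subgroup G, F ≤ (R : Subgroup G) →
      (F.subgroupOf (R : Subgroup G)).map (R : Subgroup G).subtype = F := fun F hF =>
    Subgroup.map_subgroupOf_eq_of_le hF
  have hklein : ∀ F : Subgroup G, F ≤ (R : Subgroup G) → IsElementaryAbelian 2 F →
      Nat.card ↥F = 4 → IsKleinFour ↥(F.subgroupOf (R : Subgroup G)) := fun F hF hFe hFc =>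
    isKleinFour_of (PGroups.elemAb_subgroupOf hFe _)
      (by rw [Nat.card_congr (Subgroup.subgroupOfEquivOfLe hF).toEquiv, hFc])
  have hall : ∀ E : Subgroup G, IsElementaryAbelian 2 E → E ≤ (R : Subgroup G) →
      4 ≤ Nat.card ↥E → valueSup θ E = W := by
    intro E hE hER hE4
    obtain ⟨F, hFE, hF, hFc⟩ := PGroups.elemAb_exists_le_card hE (k := 2) (by omega)
    have h1 : valueSup θ F = W := by
      rw [← hcast F (hFE.trans hER), hchain _ _ (hklein F (hFE.trans hER) hF (by omega))
        (hklein F₀ (hF₀A.trans hAR) hF₀ (by omega)), hcast F₀ (hF₀A.trans hAR), hW]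
      exact (hkey hA hA8 hF₀A (by omega)).1
    by_cases h8 : 8 ≤ Nat.card ↥E
    · rw [← h1, (hkey hE h8 hFE (by omega)).1]
    · obtain ⟨m, hm⟩ := PGroups.elemAb_card_eq_pow hE
      have hle : Nat.card ↥E ≤ 4 := by
        rw [hm] at h8 ⊢
        exact le_trans (Nat.pow_le_pow_right two_pos (by
          by_contra hm2
          exact h8 (le_trans (by norm_num)
            (Nat.pow_le_pow_right two_pos (by omega : 3 ≤ m))) : m ≤ 2)) (by norm_num)
      rw [← h1, Subgroup.eq_of_le_of_card_ge hFE (hle.trans (by omega))]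
  obtain ⟨z, hzR, hz2, hz1, hzc⟩ := CoresTrivial.exists_central_involution
    (Row3109.not_rankLE_one hAR hA (by omega))
  -- every involution of `R` lies in a four-group of `R`
  have hinv : ∀ c ∈ (R : Subgroup G), c ^ 2 = 1 → c ≠ 1 → θ c ≤ W := by
    intro c hc hc2 hc1
    have hfour : ∀ f ∈ (R : Subgroup G), f ^ 2 = 1 → ∀ d ∈ (R : Subgroup G), d ^ 2 = 1 → d ≠ 1 →
        f ∉ Subgroup.zpowers d → f * d = d * f → θ d ≤ W := by
      intro f hf hf2 d hd hd2 hd1 hfd hcm
      obtain ⟨he, hcard⟩ := FTDeps.Row3110.card_ge_double (PGroups.elemAb_zpowers hd2) hf2 hfd (by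
        intro b hb
        obtain ⟨k, rfl⟩ := Subgroup.mem_zpowers_iff.1 hb
        exact ((show Commute f d from hcm).zpow_right k).symm)
      rw [Nat.card_zpowers, orderOf_eq_prime hd2 hd1] at hcard
      rw [← hall _ he (sup_le (Subgroup.zpowers_le.2 hd) (Subgroup.zpowers_le.2 hf)) (by omega)]
      exact le_iSup (fun a : {a : G // a ∈ Subgroup.zpowers d ⊔ Subgroup.zpowers f ∧ a ≠ 1} => θ a)
        ⟨d, Subgroup.mem_sup_left (Subgroup.mem_zpowers d), hd1⟩
    by_cases hzc' : z ∈ Subgroup.zpowers c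
    · -- `c = z`: use another element of `A`
      obtain ⟨a, haA, ha1, hac⟩ : ∃ a ∈ A, a ≠ 1 ∧ a ∉ Subgroup.zpowers c := by
        by_contra h
        push Not at h
        have hsub : A ≤ Subgroup.zpowers c := fun x hx => by
          by_cases hx1 : x = 1
          · rw [hx1]; exact one_mem _
          · exact h x hx hx1
        have := Subgroup.card_le_of_le hsub
        rw [Nat.card_zpowers, orderOf_eq_prime hc2 hc1] at this
        omega
      refine hfour a (hAR haA) (PGroups.elemAb_pow hA haA) c hc hc2 hc1 hac ?_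
      obtain ⟨k, hk⟩ := Subgroup.mem_zpowers_iff.1 hzc'
      have hcz : c = z := by
        have h2 : c ^ (2 : ℤ) = 1 := by
          rw [show (2 : ℤ) = ((2 : ℕ) : ℤ) by rfl, zpow_natCast, hc2]
        rcases Int.even_or_odd k with ⟨m, rfl⟩ | ⟨m, rfl⟩
        · exact absurd (by rw [← hk, ← two_mul, zpow_mul, h2, one_zpow]) hz1
        · rw [← hk, zpow_add, zpow_mul, h2, one_zpow, one_mul, zpow_one]
      rw [hcz]
      exact hzc a (hAR haA)
    · exact hfour z hzR hz2 c hc hc2 hc1 hzc' (hzc c hc).symm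
  refine ⟨W, (hkey hA hA8 le_rfl (by omega)).2, fun B hBR hB => ?_⟩
  have hsup : W = ⨆ b : {b : G // b ∈ B ∧ b ≠ 1}, centralizerPPrimeCore 2 (b : G) := by
    refine le_antisymm ?_ (iSup_le fun ⟨b, hbB, hb1⟩ => ?_)
    · unfold PRankLE at hB
      push Not at hB
      obtain ⟨E, hEc, hE2, hEcard⟩ := hB
      have hE : IsElementaryAbelian 2 E := ⟨hEc, hE2⟩
      obtain ⟨m, hm⟩ := PGroups.elemAb_card_eq_pow hE
      have h2 : 4 ≤ Nat.card ↥(E.map B.subtype) := by
        rw [Subgroup.card_map_of_injective B.subtype_injective, hm]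
        rw [hm] at hEcard
        exact le_trans (by norm_num) (Nat.pow_le_pow_right two_pos
          ((Nat.pow_lt_pow_iff_right (by norm_num)).1 hEcard : 2 ≤ m))
      rw [← hall _ (PGroups.elemAb_map B.subtype hE) ((Subgroup.map_subtype_le E).trans hBR) h2]
      exact iSup_le fun e => le_iSup (fun b : {b : G // b ∈ B ∧ b ≠ 1} => θ b)
        ⟨e, Subgroup.map_subtype_le E e.2.1, e.2.2⟩
    · have hbp : IsPGroup 2 ↥(Subgroup.zpowers b) :=
        R.2.to_le (Subgroup.zpowers_le.2 (hBR hbB))
      obtain ⟨k, hk⟩ := IsPGroup.iff_card.1 hbp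
      rw [Nat.card_zpowers] at hk
      have hb2 : 2 ∣ orderOf b := by
        rw [hk]
        refine dvd_pow_self 2 fun h => hb1 ?_
        rw [h, pow_zero] at hk
        exact orderOf_eq_one_iff.1 hk
      set c := b ^ (orderOf b / 2) with hc
      have hcord : orderOf c = 2 := orderOf_pow_orderOf_div (orderOf_pos b).ne' hb2
      have hbc : b * c = c * b := ((Commute.refl b).pow_right _).eq
      have h1 : centralizerPPrimeCore 2 b ≤ θ c := fun x hx =>
        FTDeps.Row3110.balance_pElement hbp hbc (hL c hcord) ⟨hx,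
          Subgroup.mem_centralizer_singleton_iff.2
            (((show Commute x b from Subgroup.mem_centralizer_singleton_iff.1
              (Balance.centralizerPPrimeCore_le b hx)).pow_right _).eq)⟩
      exact h1.trans (hinv c (pow_mem (hBR hbB) _) (hcord ▸ pow_orderOf_eq_one c)
        (fun h => by rw [h, orderOf_one] at hcord; omega))
  refine ⟨hsup, fun g hg => ?_⟩
  rw [Subgroup.mem_normalizer_iff_map_conj_eq]
  refine Subgroup.eq_of_le_of_card_ge ?_ (Subgroup.card_map_of_injective (MulAut.conj g).injective).ge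
  rw [hsup, Subgroup.map_iSup]
  refine iSup_le fun b => ?_
  refine le_trans (Balance.centralizerPPrimeCore_conj g (b : G)).ge ?_
  exact le_iSup (fun b : {b : G // b ∈ B ∧ b ≠ 1} => centralizerPPrimeCore 2 (b : G))
    ⟨g * b * g⁻¹, (Subgroup.mem_normalizer_iff.1 hg b).1 b.2.1, fun h => b.2.2 (by simpa using h)⟩

end Cfsg.Agent.Lib.BenderDeps.FourConnected
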