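import Cfsg.Agent.Lib.FTDeps.Row3110
import Cfsg.Agent.Lib.Involutions.StronglyEmbedded
import Cfsg.Agent.Lib.PGroups.UniqueInvolution

/-!
# S3109 modulo the odd order theorem and Bender's core lemma

In a simple group with all 2-locals 2-constrained and `SCN₃(2) ≠ ∅`, centralizers of involutions
have trivial cores, given that the core of a strongly embedded subgroup lies in the core of the
group.
-/

set_option autoImplicit false
set_option linter.style.haveILetI false

open Cfsg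
open Cfsg.Agent.Lib
open scoped Pointwise

namespace Cfsg.Agent.Lib.BenderDeps.Row3109

universe u

/-- The statement that the core of a strongly embedded subgroup lies in the core of the group. -/
def CoreOfStronglyEmbedded : Prop :=
  ∀ (G : Type u) [Group G] [Finite G] (H : Subgroup G), Cfsg.IsStronglyEmbedded H →
    (Cfsg.oddCore ↥H).map H.subtype ≤ Cfsg.oddCore G

variable {G : Type u} [Group G]

/-- An element of prime-power order centralizing a Sylow subgroup `P` of `Q` lies in `P`. -/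
theorem mem_sylow_of_centralizes {p : ℕ} [Fact p.Prime] {Q : Subgroup G} (P : Sylow p ↥Q)
    {x : ↥Q} (hx : IsPGroup p ↥(Subgroup.zpowers x))
    (hc : ∀ y ∈ (P : Subgroup ↥Q), y * x = x * y) : x ∈ (P : Subgroup ↥Q) := by
  have hle : Subgroup.zpowers x ≤ Subgroup.normalizer ((P : Subgroup ↥Q) : Set ↥Q) :=
    (Subgroup.zpowers_le.2 (Subgroup.mem_centralizer_iff.2 hc)).trans
      (Subgroup.centralizer_le_normalizer _)
  have h1 : IsPGroup p ↥((P : Subgroup ↥Q) ⊔ Subgroup.zpowers x) :=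
    P.2.to_sup_of_normal_left' hx hle
  have h2 := P.3 h1 le_sup_left
  exact h2 ▸ Subgroup.mem_sup_right (Subgroup.mem_zpowers x)

/-- A group containing an elementary abelian 2-group of order at least 4 has 2-rank at least 2. -/
theorem not_rankLE_one {B E : Subgroup G} (hEB : E ≤ B) (hE : IsElementaryAbelian 2 E)
    (h4 : 4 ≤ Nat.card ↥E) : ¬ Cfsg.PRankLE 2 1 ↥B := by
  intro h
  haveI := hE.1
  have h1 := h (E.subgroupOf B)
    ⟨⟨fun a b => Subtype.ext (Subtype.ext (PGroups.elemAb_comm hE a.2 b.2))⟩⟩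
    (fun a ha => Subtype.ext (PGroups.elemAb_pow hE ha))
  rw [Nat.card_congr (Subgroup.subgroupOfEquivOfLe hEB).toEquiv] at h1
  norm_num at h1
  omega

/-- Commuting involutions in a group of 2-rank 1 are equal. -/
theorem invol_eq [Finite G] {B : Subgroup G} (hB : Cfsg.PRankLE 2 1 ↥B) {u z : G} (hu : u ∈ B)
    (hz : z ∈ B) (hu2 : u ^ 2 = 1) (hz2 : z ^ 2 = 1) (hu1 : u ≠ 1) (hz1 : z ≠ 1)
    (hc : u * z = z * u) : u = z := by
  haveI : Fact (Nat.Prime 2) := ⟨Nat.prime_two⟩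
  by_contra hne
  have hcard : Nat.card ↥(Subgroup.zpowers z) = 2 := by
    rw [Nat.card_zpowers, orderOf_eq_prime hz2 hz1]
  have hnot : u ∉ Subgroup.zpowers z := by
    intro h
    obtain ⟨k, rfl⟩ := Subgroup.mem_zpowers_iff.1 h
    have h2 : z ^ (2 : ℤ) = 1 := by
      rw [show (2 : ℤ) = ((2 : ℕ) : ℤ) by rfl, zpow_natCast, hz2]
    rcases Int.even_or_odd k with ⟨m, rfl⟩ | ⟨m, rfl⟩
    · exact hu1 (by rw [← two_mul, zpow_mul, h2, one_zpow])
    · exact hne (by rw [zpow_add, zpow_mul, h2, one_zpow, one_mul, zpow_one])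
  obtain ⟨hEe, hEc⟩ := FTDeps.Row3110.card_ge_double (PGroups.elemAb_zpowers hz2) hu2 hnot
    (by
      intro b hb
      obtain ⟨k, rfl⟩ := Subgroup.mem_zpowers_iff.1 hb
      exact ((show Commute u z from hc).zpow_right k).symm.eq)
  rw [hcard] at hEc
  exact not_rankLE_one (sup_le (Subgroup.zpowers_le.2 hz) (Subgroup.zpowers_le.2 hu)) hEe
    (by omega) hB

/-- A conjugation pattern: some element of `A₀` centralizes `x` but not `y`. -/
theorem exists_pattern [Finite G] {P A₀ : Subgroup G} {z x y : G}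
    (h8 : 8 ≤ Nat.card ↥A₀)
    (hgen : ∀ g : G, g * x = x * g → g * y = y * g → ∀ p ∈ P, g * p = p * g)
    (hx : ∀ a ∈ A₀, a * x * a⁻¹ = x ∨ a * x * a⁻¹ = z * x)
    (hy : ∀ a ∈ A₀, a * y * a⁻¹ = y ∨ a * y * a⁻¹ = z * y)
    (hker : ∀ a ∈ A₀, (∀ p ∈ P, a * p = p * a) → a = 1 ∨ a = z) :
    ∃ a ∈ A₀, a * x * a⁻¹ = x ∧ a * y * a⁻¹ ≠ y := by
  classical
  haveI := Fintype.ofFinite ↥A₀
  let f : ↥A₀ → Bool × Bool := fun a =>
    (decide ((a : G) * x * (a : G)⁻¹ = x), decide ((a : G) * y * (a : G)⁻¹ = y))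
  have hval : ∀ {w : G}, (∀ a ∈ A₀, a * w * a⁻¹ = w ∨ a * w * a⁻¹ = z * w) → ∀ a b : ↥A₀,
      ((a : G) * w * (a : G)⁻¹ = w ↔ (b : G) * w * (b : G)⁻¹ = w) →
      ((b : G)⁻¹ * a) * w = w * ((b : G)⁻¹ * a) := by
    intro w hw a b hiff
    have heq : (a : G) * w * (a : G)⁻¹ = (b : G) * w * (b : G)⁻¹ := by
      rcases hw a a.2 with h1 | h1
      · rw [h1, hiff.1 h1]
      · rcases hw b b.2 with h2 | h2
        · rw [h2, hiff.2 h2]
        · rw [h1, h2]
    calc (b : G)⁻¹ * a * w = (b : G)⁻¹ * ((a : G) * w * (a : G)⁻¹) * a := by group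
      _ = (b : G)⁻¹ * ((b : G) * w * (b : G)⁻¹) * a := by rw [heq]
      _ = w * ((b : G)⁻¹ * a) := by group
  have hfib : ∀ q ∈ (Finset.univ : Finset ↥A₀).image f,
      ((Finset.univ : Finset ↥A₀).filter fun a => f a = q).card ≤ 2 := by
    intro q hq
    obtain ⟨b, -, hb⟩ := Finset.mem_image.1 hq
    let S2 : Finset ↥A₀ := if h : z ∈ A₀ then {b, b * ⟨z, h⟩} else {b}
    refine le_trans (Finset.card_le_card (t := S2) ?_) ?_
    · intro a ha
      rw [Finset.mem_filter] at ha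
      have hab : f a = f b := ha.2.trans hb.symm
      simp only [f, Prod.mk.injEq, decide_eq_decide] at hab
      have hk := hker ((b : G)⁻¹ * a) (mul_mem (inv_mem b.2) a.2)
        (hgen _ (hval hx a b hab.1) (hval hy a b hab.2))
      rcases hk with h | h
      · have : a = b := Subtype.ext (inv_mul_eq_one.1 h).symm
        simp only [S2]
        split <;> simp [this]
      · have hzA : z ∈ A₀ := h ▸ mul_mem (inv_mem b.2) a.2
        have : a = b * ⟨z, hzA⟩ := Subtype.ext (inv_mul_eq_iff_eq_mul.1 h)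
        simp [S2, hzA, this]
    · simp only [S2]
      split
      · exact Finset.card_le_two
      · simp
  by_contra hne
  push Not at hne
  have hsub : (Finset.univ : Finset ↥A₀).image f ⊆ {(true, true), (false, true), (false, false)} := by
    intro q hq
    obtain ⟨a, -, rfl⟩ := Finset.mem_image.1 hq
    by_cases h1 : (a : G) * x * (a : G)⁻¹ = x
    · simp [f, h1, hne a a.2 h1]
    · by_cases h2 : (a : G) * y * (a : G)⁻¹ = y <;> simp [f, h1, h2]
  have h1 := Finset.card_le_mul_card_image (Finset.univ : Finset ↥A₀) 2 hfib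
  have h2 := Finset.card_le_card hsub
  have h3 : Finset.card ({(true, true), (false, true), (false, false)} : Finset (Bool × Bool)) ≤ 3 :=
    Finset.card_le_three
  rw [Finset.card_univ, ← Nat.card_eq_fintype_card] at h1
  omega

section
variable [Finite G]

/-- The rank of `P` in the situation of `centralizer_le_normalizer_core`. -/
theorem not_rankLE_one_of_selfCentralizing {P R A₀ : Subgroup G} (hP2 : IsPGroup 2 ↥P)
    (hPR : P ≤ R) (hA : IsElementaryAbelian 2 A₀) (h8 : 8 ≤ Nat.card ↥A₀) (hAR : A₀ ≤ R)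
    (hAn : ∀ s ∈ R, ∀ a ∈ A₀, s * a * s⁻¹ ∈ A₀) {z t : G} (hzA : z ∈ A₀) (hz1 : z ≠ 1)
    (hzc : ∀ s ∈ R, s * z = z * s) (htP : t ∈ P) (ht : orderOf t = 2) (htR : t ∈ R)
    (hself : ∀ g : G, g * t = t * g → IsPGroup 2 ↥(Subgroup.zpowers g) →
      (∀ p ∈ P, g * p = p * g) → g ∈ P)
    (hnorm : (∀ s ∈ R, s * t = t * s) → ∀ s ∈ R, ∀ p ∈ P, s * p * s⁻¹ ∈ P)
    (hR2 : IsPGroup 2 ↥R) :
    ¬ Cfsg.PRankLE 2 1 ↥P := by
  haveI : Fact (Nat.Prime 2) := ⟨Nat.prime_two⟩
  intro hrk
  have hz2 : z ^ 2 = 1 := PGroups.elemAb_pow hA hzA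
  have hzP : z ∈ P := by
    refine hself z (hzc t htR).symm ?_ fun p hp => (hzc p (hPR hp)).symm
    exact hR2.to_le (Subgroup.zpowers_le.2 (hAR hzA))
  have ht1 : t ≠ 1 := fun h => by rw [h, orderOf_one] at ht; omega
  obtain rfl : t = z :=
    invol_eq hrk htP hzP (ht ▸ pow_orderOf_eq_one t) hz2 ht1 hz1 (hzc t htR)
  have hPn : ∀ s ∈ R, ∀ p ∈ P, s * p * s⁻¹ ∈ P := hnorm hzc
  have huniq : ∀ v ∈ P, v ^ 2 = 1 → v = 1 ∨ v = t := fun v hv hv2 =>
    or_iff_not_imp_left.2 fun hv1 =>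
      invol_eq hrk hv hzP hv2 hz2 hv1 hz1 (hzc v (hPR hv))
  have hcomm : ∀ a ∈ A₀, ∀ p ∈ P, a * p * a⁻¹ = p ∨ a * p * a⁻¹ = t * p := by
    intro a ha p hp
    have h1 : a * p * a⁻¹ * p⁻¹ ∈ P := mul_mem (hPn a (hAR ha) p hp) (inv_mem hp)
    have h2 : a * p * a⁻¹ * p⁻¹ ∈ A₀ := by
      rw [show a * p * a⁻¹ * p⁻¹ = a * (p * a⁻¹ * p⁻¹) by group]
      exact mul_mem ha (hAn p (hPR hp) _ (inv_mem ha))
    rcases huniq _ h1 (PGroups.elemAb_pow hA h2) with h | h
    · exact Or.inl (mul_inv_eq_one.1 h)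
    · exact Or.inr (mul_inv_eq_iff_eq_mul.1 h)
  have hker : ∀ a ∈ A₀, (∀ p ∈ P, a * p = p * a) → a = 1 ∨ a = t := fun a ha hc =>
    huniq a (hself a (hzc a (hAR ha)) (hR2.to_le (Subgroup.zpowers_le.2 (hAR ha))) hc)
      (PGroups.elemAb_pow hA ha)
  rcases PGroups.isCyclic_or_quaternion hP2 (fun u v hu hv => by
      have h' : ∀ w : ↥P, orderOf w = 2 → (w : G) = t := fun w hw =>
        (huniq w w.2 (by rw [← hw, ← Subgroup.orderOf_coe]; exact pow_orderOf_eq_one _)).resolve_left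
          fun h => by rw [← Subgroup.orderOf_coe, h, orderOf_one] at hw; omega
      rw [show v = u from Subtype.ext ((h' v hv).trans (h' u hu).symm)]
      exact Subgroup.mem_zpowers u) with hcyc | ⟨-, n, hn, ⟨e⟩⟩
  · obtain ⟨x, hx⟩ := hcyc.exists_generator
    obtain ⟨a, -, h1, h2⟩ := exists_pattern (P := P) (x := (x : G)) (y := (x : G)) h8
      (fun g hg _ p hp => by
        obtain ⟨k, hk⟩ := Subgroup.mem_zpowers_iff.1 (hx ⟨p, hp⟩)
        rw [show p = (x : G) ^ k from (congrArg Subtype.val hk).symm.trans (by simp)]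
        exact ((show Commute g (x : G) from hg).zpow_right k).eq)
      (fun a ha => hcomm a ha x x.2) (fun a ha => hcomm a ha x x.2) hker
    exact h2 h1
  · obtain ⟨k, hk⟩ : ∃ k, 2 ^ n = 2 * k := dvd_pow_self 2 (by omega : n ≠ 0)
    haveI : NeZero (2 ^ n) := ⟨by positivity⟩
    set x : ↥P := e.symm (QuaternionGroup.a 1) with hx
    set y : ↥P := e.symm (QuaternionGroup.xa 0) with hy
    set w : ↥P := e.symm (QuaternionGroup.a (k : ZMod (2 * 2 ^ n))) with hw
    have hgen : ∀ g : G, g * (x : G) = x * g → g * (y : G) = y * g → ∀ p ∈ P, g * p = p * g := by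
      intro g hgx hgy p hp
      have h1 : ∀ j : ℕ, ((x ^ j : ↥P) : G) = (x : G) ^ j := fun j => rfl
      have hxj : ∀ j : ℕ, x ^ j = e.symm (QuaternionGroup.a (j : ZMod (2 * 2 ^ n))) := by
        intro j
        rw [hx, ← map_pow, QuaternionGroup.a_one_pow]
      rcases hq : e ⟨p, hp⟩ with i | i
      · have : (⟨p, hp⟩ : ↥P) = x ^ i.val := by
          rw [hxj, ZMod.natCast_zmod_val, ← hq, MulEquiv.symm_apply_apply]
        rw [show p = (x : G) ^ i.val from (congrArg Subtype.val this).trans (h1 _)]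
        exact ((show Commute g (x : G) from hgx).pow_right _).eq
      · have : (⟨p, hp⟩ : ↥P) = y * x ^ i.val := by
          rw [hxj, ZMod.natCast_zmod_val, hy, ← map_mul, QuaternionGroup.xa_mul_a, zero_add, ← hq,
            MulEquiv.symm_apply_apply]
        rw [show p = (y : G) * (x : G) ^ i.val from (congrArg Subtype.val this).trans (by
          rw [Subgroup.coe_mul, h1])]
        exact ((show Commute g (y : G) from hgy).mul_right
          ((show Commute g (x : G) from hgx).pow_right _)).eq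
    have hwx : w * x = x * w := by
      rw [hw, hx, ← map_mul, ← map_mul, QuaternionGroup.a_mul_a, QuaternionGroup.a_mul_a, add_comm]
    have hwy : w * y ≠ y * w := by
      rw [hw, hy, ← map_mul, ← map_mul, e.symm.injective.ne_iff, QuaternionGroup.a_mul_xa,
        QuaternionGroup.xa_mul_a]
      simp only [ne_eq, QuaternionGroup.xa.injEq, zero_sub, zero_add]
      intro h
      rw [neg_eq_iff_add_eq_zero, ← Nat.cast_add, ZMod.natCast_eq_zero_iff] at h
      have := Nat.le_of_dvd (by have := Nat.two_pow_pos n; omega) h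
      have := Nat.two_pow_pos n
      omega
    obtain ⟨a, haA, hax, hay⟩ := exists_pattern (x := (x : G)) (y := (y : G)) h8 hgen
      (fun a ha => hcomm a ha x x.2) (fun a ha => hcomm a ha y y.2) hker
    have hay' : a * (y : G) * a⁻¹ = t * y := (hcomm a haA y y.2).resolve_left hay
    have hwy' : (w : G) * y * (w : G)⁻¹ = t * y := by
      set c : ↥P := w * y * w⁻¹ * y⁻¹ with hc
      have hc2 : c ^ 2 = 1 := by
        rw [hc, hw, hy, ← map_inv, ← map_inv, ← map_mul, ← map_mul, ← map_mul, ← map_pow,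
          ← map_one e.symm]
        congr 1
        have hinv : ∀ i : ZMod (2 * 2 ^ n), (QuaternionGroup.a i)⁻¹ = QuaternionGroup.a (-i) :=
          fun i => rfl
        have hinv' : ∀ i : ZMod (2 * 2 ^ n),
            (QuaternionGroup.xa i)⁻¹ = QuaternionGroup.xa (((2 ^ n : ℕ) : ZMod (2 * 2 ^ n)) + i) := fun i => rfl
        rw [hinv, hinv', QuaternionGroup.a_mul_xa, QuaternionGroup.xa_mul_a,
          QuaternionGroup.xa_mul_xa, sq, QuaternionGroup.a_mul_a, QuaternionGroup.one_def]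
        congr 1
        have h0 : ((2 * 2 ^ n : ℕ) : ZMod (2 * 2 ^ n)) = 0 := ZMod.natCast_self _
        have hk' : ((2 ^ n : ℕ) : ZMod (2 * 2 ^ n)) = 2 * (k : ZMod (2 * 2 ^ n)) := by
          rw [hk]; push_cast; ring
        push_cast at h0 hk' ⊢
        linear_combination 3 * h0 - 2 * hk'
      have hc1 : (c : G) ≠ 1 := fun h => hwy (by
        have h' : c = 1 := Subtype.ext h
        rw [hc, mul_inv_eq_one, mul_inv_eq_iff_eq_mul] at h'
        exact h')
      have := (huniq c c.2 (congrArg Subtype.val hc2)).resolve_left hc1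
      rw [hc] at this
      exact mul_inv_eq_iff_eq_mul.1 this
    have hwR : (w : G) ∈ R := hPR w.2
    have haP : a ∈ P := by
      have hb : (w : G)⁻¹ * a ∈ P := by
        refine hself _ (hzc _ (mul_mem (inv_mem hwR) (hAR haA))) (hR2.to_le (Subgroup.zpowers_le.2
          (mul_mem (inv_mem hwR) (hAR haA)))) (hgen _ ?_ ?_)
        · have hwx' : (w : G) * x = x * w := congrArg Subtype.val hwx
          calc (w : G)⁻¹ * a * x = (w : G)⁻¹ * (a * x * a⁻¹) * a := by group
            _ = (w : G)⁻¹ * x * a := by rw [hax]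
            _ = (x : G) * (w : G)⁻¹ * a := by
              rw [show Commute (w : G)⁻¹ (x : G) from (show Commute (w : G) x from hwx').inv_left]
            _ = _ := by group
        · calc (w : G)⁻¹ * a * y = (w : G)⁻¹ * (a * y * a⁻¹) * a := by group
            _ = (w : G)⁻¹ * ((w : G) * y * (w : G)⁻¹) * a := by rw [hay', hwy']
            _ = _ := by group
      simpa using mul_mem w.2 hb
    rcases huniq a haP (PGroups.elemAb_pow hA haA) with rfl | rfl
    · simp at hay
    · exact hay (mul_inv_eq_iff_eq_mul.2 (hzc y (hPR y.2)).symm)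

end

section main

variable [Finite G]

theorem exists_central [Fact (Nat.Prime 2)] {S' : Sylow 2 G} {A₀ : Subgroup G}
    (hA₀S : A₀ ≤ (S' : Subgroup G)) (h8 : 8 ≤ Nat.card ↥A₀)
    (hA₀n : ∀ s ∈ (S' : Subgroup G), ∀ a ∈ A₀, s * a * s⁻¹ ∈ A₀) :
    ∃ z ∈ A₀, z ≠ 1 ∧ ∀ s ∈ (S' : Subgroup G), s * z = z * s := by
  haveI : (A₀.subgroupOf (S' : Subgroup G)).Normal := ⟨fun a ha s => hA₀n s s.2 a ha⟩
  have hne : A₀.subgroupOf (S' : Subgroup G) ≠ ⊥ := by
    intro h
    have h1 := congrArg (fun K : Subgroup _ => Nat.card ↥K) h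
    simp only [Subgroup.card_bot] at h1
    rw [Nat.card_congr (Subgroup.subgroupOfEquivOfLe hA₀S).toEquiv] at h1
    omega
  obtain ⟨z, hz, hz1⟩ := (Subgroup.bot_or_exists_ne_one _).resolve_left
    (PGroups.normal_inf_center_ne_bot S'.2 _ hne)
  exact ⟨z, hz.1, fun h => hz1 (Subtype.ext h), fun s hs =>
    congrArg Subtype.val (Subgroup.mem_center_iff.1 hz.2 ⟨s, hs⟩)⟩

theorem centralizerPPrimeCore_eq_bot (hFT : FTDeps.Basic.OddOrderSolvable.{u})
    (hBender : CoreOfStronglyEmbedded.{u}) [IsSimpleGroup G] (hG : ¬ IsMulCommutative G)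
    (h2c : ∀ T : Subgroup G, IsPGroup 2 T → T ≠ ⊥ →
      Cfsg.IsPConstrained 2 ↥(Subgroup.normalizer (T : Set G)))
    (S : Sylow 2 G) (A : Subgroup ↥(S : Subgroup G)) (hAn : A.Normal) (hAab : IsMulCommutative ↥A)
    (hA3 : ¬ Cfsg.PRankLE 2 2 ↥A) :
    ∀ t : G, orderOf t = 2 → Cfsg.centralizerPPrimeCore 2 t = ⊥ := by
  haveI : Fact (Nat.Prime 2) := ⟨Nat.prime_two⟩
  choose W hWodd hW using fun R : Sylow 2 G =>
    FTDeps.Row3110.cores_generate hFT h2c S A hAn hAab hA3 R
  choose A₀ hA₀R hA₀e hA₀8 hA₀n using fun R : Sylow 2 G =>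
    FTDeps.Row3110.exists_normal_elem S A hAn hAab hA3 R
  have hrkR : ∀ R : Sylow 2 G, ¬ Cfsg.PRankLE 2 1 ↥(R : Subgroup G) := fun R =>
    not_rankLE_one (hA₀R R) (hA₀e R) (by have := hA₀8 R; omega)
  have hle : ∀ (R : Sylow 2 G) (b : G), b ∈ (R : Subgroup G) → b ≠ 1 →
      centralizerPPrimeCore 2 b ≤ W R := fun R b hb hb1 => by
    rw [(hW R _ le_rfl (hrkR R)).1]
    exact le_iSup (fun b : {b : G // b ∈ (R : Subgroup G) ∧ b ≠ 1} =>
      centralizerPPrimeCore 2 (b : G)) ⟨b, hb, hb1⟩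
  -- equivariance
  have hmapW : ∀ (g : G) (R : Sylow 2 G),
      (W R).map (MulAut.conj g).toMonoidHom ≤ W (g • R) := by
    intro g R
    rw [(hW R _ le_rfl (hrkR R)).1, Subgroup.map_iSup]
    refine iSup_le fun b => ?_
    rw [← Balance.centralizerPPrimeCore_conj]
    refine hle _ _ ?_ fun h => b.2.2 (by simpa using h)
    rw [Sylow.coe_subgroup_smul]
    exact Subgroup.smul_mem_pointwise_smul (a := MulAut.conj g) (b : G) (R : Subgroup G) b.2.1
  have hWconj : ∀ (g : G) (R : Sylow 2 G),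
      W (g • R) = (W R).map (MulAut.conj g).toMonoidHom := by
    intro g R
    refine le_antisymm (fun x hx => ?_) (hmapW g R)
    have h1 := hmapW g⁻¹ (g • R) ⟨x, hx, rfl⟩
    rw [inv_smul_smul] at h1
    exact ⟨_, h1, by simp [MulAut.conj_apply, mul_assoc]⟩
  -- Sylow subgroups sharing an involution differ by an element centralizing it
  have hshift : ∀ u : G, orderOf u = 2 → ∀ Q Q' : Sylow 2 G, u ∈ (Q : Subgroup G) →
      u ∈ (Q' : Subgroup G) → ∃ c ∈ Subgroup.centralizer ({u} : Set G),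
        W Q' = W (c • Q) := by
    intro u hu Q Q' hQ hQ'
    set C := Subgroup.centralizer ({u} : Set G)
    have hu1 : u ≠ 1 := fun h => by rw [h, orderOf_one] at hu; omega
    have hrk : ∀ T : Sylow 2 G, u ∈ (T : Subgroup G) →
        ¬ Cfsg.PRankLE 2 1 ↥((T : Subgroup G) ⊓ C) := by
      intro T hT hrk
      obtain ⟨z', hz'A, hz'1, hz'c⟩ := exists_central (hA₀R T) (hA₀8 T) (hA₀n T)
      obtain rfl : u = z' := invol_eq hrk ⟨hT, Subgroup.mem_centralizer_singleton_iff.2 rfl⟩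
        ⟨hA₀R T hz'A, Subgroup.mem_centralizer_singleton_iff.2 (hz'c u hT).symm⟩
        (hu ▸ pow_orderOf_eq_one u)
        (PGroups.elemAb_pow (hA₀e T) hz'A) hu1 hz'1 (hz'c u hT)
      exact not_rankLE_one (B := (T : Subgroup G) ⊓ C)
        (fun a ha => ⟨hA₀R T ha, Subgroup.mem_centralizer_singleton_iff.2 (hz'c a (hA₀R T ha))⟩)
        (hA₀e T) (by have := hA₀8 T; omega) hrk
    obtain ⟨Q₁, hQ₁⟩ := (((Q.2.to_le inf_le_left) : IsPGroup 2 ↥((Q : Subgroup G) ⊓ C)).comap_subtype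
      (K := C)).exists_le_sylow
    obtain ⟨Q₂, hQ₂⟩ := (((Q'.2.to_le inf_le_left) : IsPGroup 2 ↥((Q' : Subgroup G) ⊓ C)).comap_subtype
      (K := C)).exists_le_sylow
    obtain ⟨T, hT⟩ := (Q₂.2.map C.subtype).exists_le_sylow
    obtain ⟨c, hc⟩ := MulAction.exists_smul_eq (↥C) Q₁ Q₂
    have e1 : W Q' = W T := by
      have hsub : (Q' : Subgroup G) ⊓ C ≤ (T : Subgroup G) := fun x hx =>
        hT ⟨⟨x, hx.2⟩, hQ₂ hx, rfl⟩
      rw [(hW Q' _ inf_le_left (hrk Q' hQ')).1, (hW T _ hsub (hrk Q' hQ')).1]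
    have e2 : W ((c : G) • Q) = W T := by
      have hsub : ((Q : Subgroup G) ⊓ C).map (MulAut.conj (c : G)).toMonoidHom ≤ (T : Subgroup G) := by
        rintro _ ⟨x, hx, rfl⟩
        refine hT ⟨c * ⟨x, hx.2⟩ * c⁻¹, ?_, rfl⟩
        rw [← hc, Sylow.coe_subgroup_smul]
        exact Subgroup.smul_mem_pointwise_smul (a := MulAut.conj c) (⟨x, hx.2⟩ : ↥C)
          (Q₁ : Subgroup ↥C) (hQ₁ hx)
      have hsub' : ((Q : Subgroup G) ⊓ C).map (MulAut.conj (c : G)).toMonoidHom ≤
          (((c : G) • Q : Sylow 2 G) : Subgroup G) := by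
        rintro _ ⟨x, hx, rfl⟩
        rw [Sylow.coe_subgroup_smul]
        exact Subgroup.smul_mem_pointwise_smul (a := MulAut.conj (c : G)) x (Q : Subgroup G) hx.1
      have hr : ¬ Cfsg.PRankLE 2 1
          ↥(((Q : Subgroup G) ⊓ C).map (MulAut.conj (c : G)).toMonoidHom) := by
        have h := hrk Q hQ
        intro h'
        unfold PRankLE at h h'
        push Not at h
        obtain ⟨E, hEc, hE2, hEcard⟩ := h
        let φ : ↥((Q : Subgroup G) ⊓ C) →*
            ↥(((Q : Subgroup G) ⊓ C).map (MulAut.conj (c : G)).toMonoidHom) :=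
          (MulAut.conj (c : G)).toMonoidHom.subgroupMap _
        have hφ : Function.Injective φ := fun a b hab =>
          Subtype.ext ((MulAut.conj (c : G)).injective (congrArg Subtype.val hab))
        have hEe : IsElementaryAbelian 2 E := ⟨hEc, hE2⟩
        have := h' (E.map φ) (PGroups.elemAb_map φ hEe).1
          (fun a ha => PGroups.elemAb_pow (PGroups.elemAb_map φ hEe) ha)
        rw [Subgroup.card_map_of_injective hφ] at this
        omega
      rw [(hW _ _ hsub' hr).1, (hW T _ hsub hr).1]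
    exact ⟨(c : G), c.2, e1.trans e2.symm⟩
  -- the key local fact
  have hkey : ∀ t : G, orderOf t = 2 → ∀ R : Sylow 2 G, t ∈ (R : Subgroup G) →
      Subgroup.centralizer ({t} : Set G) ≤ Subgroup.normalizer ((W R : Subgroup G) : Set G) := by
    intro t ht R htR
    set C := Subgroup.centralizer ({t} : Set G) with hC
    have ht1 : t ≠ 1 := fun h => by rw [h, orderOf_one] at ht; omega
    have ht2 : t ^ 2 = 1 := ht ▸ pow_orderOf_eq_one t
    have hzt : IsPGroup 2 ↥(Subgroup.zpowers t) :=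
      IsPGroup.of_card (n := 1) (by rw [Nat.card_zpowers, ht, pow_one])
    have hCc : Cfsg.IsPConstrained 2 ↥C := by
      have h1 := h2c _ hzt (fun h => ht1 (Subgroup.zpowers_eq_bot.1 h))
      rwa [FTDeps.Row3110.normalizer_zpowers_eq_centralizer ht] at h1
    obtain ⟨P'⟩ := (inferInstance : Nonempty (Sylow 2 ↥(pPrimePCore 2 ↥C)))
    set PC : Subgroup ↥C :=
      (P' : Subgroup ↥(pPrimePCore 2 ↥C)).map (pPrimePCore 2 ↥C).subtype with hPC
    set P : Subgroup G := PC.map C.subtype with hP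
    have hPCp : IsPGroup 2 ↥PC := P'.2.map _
    have hPp : IsPGroup 2 ↥P := hPCp.map _
    have hPC' : P ≤ C := Subgroup.map_subtype_le _
    have hPC2 : ∀ x : ↥C, (x : G) ∈ P ↔ x ∈ PC := fun x =>
      Subgroup.mem_map_iff_mem C.subtype_injective
    have hPQ : ∀ x : ↥C, x ∈ PC → x ∈ pPrimePCore 2 ↥C := fun x hx =>
      Subgroup.map_subtype_le _ hx
    have hCcomm : ∀ x : ↥C, (x : G) * t = t * x := fun x =>
      Subgroup.mem_centralizer_singleton_iff.1 x.2
    have hCmem : ∀ g : G, g * t = t * g → g ∈ C := fun g hg =>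
      Subgroup.mem_centralizer_singleton_iff.2 hg
    have hself : ∀ g : G, g * t = t * g → IsPGroup 2 ↥(Subgroup.zpowers g) →
        (∀ p ∈ P, g * p = p * g) → g ∈ P := by
      intro g hgt hg2 hgP
      set gC : ↥C := ⟨g, hCmem g hgt⟩ with hgC
      have hgQ : gC ∈ pPrimePCore 2 ↥C := by
        refine hCc P' (Subgroup.mem_centralizer_iff.2 fun p hp => Subtype.ext ?_)
        exact (hgP p ⟨p, hp, rfl⟩).symm
      have h2 : IsPGroup 2 ↥(Subgroup.zpowers (⟨gC, hgQ⟩ : ↥(pPrimePCore 2 ↥C))) := by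
        obtain ⟨n, hn⟩ := IsPGroup.iff_card.1 hg2
        refine IsPGroup.of_card (n := n) ?_
        rw [Nat.card_zpowers, ← Subgroup.orderOf_coe, ← Subgroup.orderOf_coe]
        rwa [Nat.card_zpowers] at hn
      have h3 := mem_sylow_of_centralizes P' h2 fun y hy => Subtype.ext (Subtype.ext
        (hgP _ ⟨_, ⟨y, hy, rfl⟩, rfl⟩).symm)
      exact ⟨gC, ⟨_, h3, rfl⟩, rfl⟩
    have htP : t ∈ P := hself t rfl hzt fun p hp => (hCcomm ⟨p, hPC' hp⟩).symm
    -- a Sylow subgroup of `G` containing a Sylow subgroup of `C` above `P`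
    obtain ⟨R0, hR0⟩ := hPCp.exists_le_sylow
    obtain ⟨R1, hR1⟩ := (R0.2.map C.subtype).exists_le_sylow
    have hPR1 : P ≤ (R1 : Subgroup G) := fun x hx => hR1 (Subgroup.map_mono hR0 hx)
    have htR1 : t ∈ (R1 : Subgroup G) := hPR1 htP
    obtain ⟨z, hzA, hz1, hzc⟩ := exists_central (hA₀R R1) (hA₀8 R1) (hA₀n R1)
    have hPrk : ¬ Cfsg.PRankLE 2 1 ↥P := by
      refine not_rankLE_one_of_selfCentralizing hPp hPR1 (hA₀e R1) (hA₀8 R1) (hA₀R R1)
        (hA₀n R1) hzA hz1 hzc htP ht htR1 hself ?_ R1.2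
      intro hcen s hs p hp
      -- `P` is the intersection of `R1` with `pPrimePCore`
      set X : Subgroup ↥(pPrimePCore 2 ↥C) :=
        ((R1 : Subgroup G).subgroupOf C).subgroupOf (pPrimePCore 2 ↥C) with hX
      have hXp : IsPGroup 2 ↥X := ((R1.2.comap_subtype (K := C))).comap_subtype
      have hPX : (P' : Subgroup _) ≤ X := fun y hy => hPR1 ⟨_, ⟨y, hy, rfl⟩, rfl⟩
      have hXP := P'.3 hXp hPX
      set sC : ↥C := ⟨s, hCmem s (hcen s hs)⟩ with hsC
      set pC : ↥C := ⟨p, hPC' hp⟩ with hpC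
      have hq : sC * pC * sC⁻¹ ∈ pPrimePCore 2 ↥C :=
        (inferInstance : (pPrimePCore 2 ↥C).Normal).conj_mem _ (hPQ _ ((hPC2 pC).1 hp)) _
      have hmem : (⟨_, hq⟩ : ↥(pPrimePCore 2 ↥C)) ∈ X :=
        mul_mem (mul_mem hs (hPR1 hp)) (inv_mem hs)
      rw [hXP] at hmem
      exact ⟨_, ⟨_, hmem, rfl⟩, rfl⟩
    have hC1 : C ≤ Subgroup.normalizer ((W R1 : Subgroup G) : Set G) := by
      have htop : (⊤ : Subgroup ↥C) ≤
          pPrimeCore 2 ↥C ⊔ Subgroup.normalizer (PC : Set ↥C) := by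
        rw [← Sylow.normalizer_sup_eq_top P']
        refine sup_le le_sup_right ?_
        have h1 : (pPrimePCore 2 ↥C).map (QuotientGroup.mk' (pPrimeCore 2 ↥C)) ≤
            PC.map (QuotientGroup.mk' (pPrimeCore 2 ↥C)) := by
          rw [PSolvable.map_pPrimePCore, hPC, PSolvable.map_sylow_pPrimePCore]
        refine (Subgroup.map_le_iff_le_comap.1 h1).trans ?_
        rw [Subgroup.comap_map_eq, QuotientGroup.ker_mk']
        exact sup_le (Subgroup.le_normalizer.trans le_sup_right) le_sup_left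
      intro g hg
      have h1 : (⟨g, hg⟩ : ↥C) ∈ pPrimeCore 2 ↥C ⊔ Subgroup.normalizer (PC : Set ↥C) :=
        htop (Subgroup.mem_top _)
      have h2 := Subgroup.mem_map_of_mem C.subtype h1
      rw [Subgroup.map_sup] at h2
      refine (sup_le ?_ ?_ : _ ⊔ _ ≤ Subgroup.normalizer ((W R1 : Subgroup G) : Set G)) h2
      · exact (hle R1 t htR1 ht1).trans Subgroup.le_normalizer
      · exact (Subgroup.le_normalizer_map _).trans (hW R1 P hPR1 hPrk).2
    -- any other Sylow subgroup containing `t` gives the same subgroup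
    obtain ⟨c, hc, hcW⟩ := hshift t ht R1 R htR1 htR
    have hceq : W R = W R1 := by
      rw [hcW, hWconj]
      exact Subgroup.mem_normalizer_iff_map_conj_eq.1 (hC1 hc)
    rw [hceq]
    exact hC1
  -- uniqueness of `W` among Sylow subgroups sharing an involution
  intro t ht
  obtain ⟨R, hR⟩ := (IsPGroup.of_card (n := 1) (by rw [Nat.card_zpowers, ht, pow_one]) :
    IsPGroup 2 ↥(Subgroup.zpowers t)).exists_le_sylow
  have ht1 : t ≠ 1 := fun h => by rw [h, orderOf_one] at ht; omega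
  by_cases hW0 : W S = ⊥
  · rw [eq_bot_iff]
    obtain ⟨g, hg⟩ := MulAction.exists_smul_eq G S R
    refine (hle R t (hR (Subgroup.mem_zpowers t)) ht1).trans ?_
    rw [← hg, hWconj, hW0, Subgroup.map_bot]
  exfalso
  have hnotodd : ¬ Odd (Nat.card G) := fun h => hG (by
    rw [isMulCommutative_iff]
    exact IsSimpleGroup.comm_iff_isSolvable.2 (hFT G h))
  have hcoreG : oddCore G = ⊥ := by
    rcases (inferInstance : (oddCore G).Normal).eq_bot_or_eq_top with h | h
    · exact h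
    · exfalso
      have h2 := PSolvable.card_pPrimeCore_coprime (p := 2) (G := G)
      rw [show pPrimeCore 2 G = ⊤ from h, Subgroup.card_top] at h2
      exact hnotodd (Nat.coprime_two_right.1 h2)
  set M := Subgroup.normalizer ((W S : Subgroup G) : Set G) with hM
  have hMtop : M ≠ ⊤ := by
    intro h
    rcases (Subgroup.normalizer_eq_top_iff.1 h).eq_bot_or_eq_top with h' | h'
    · exact hW0 h'
    · refine hnotodd ?_
      have := hWodd S
      rwa [h', Subgroup.card_top] at this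
  have hSM : (S : Subgroup G) ≤ M :=
    Subgroup.le_normalizer.trans (hW S _ le_rfl (hrkR S)).2
  have hMeven : Even (Nat.card ↥M) := by
    have h8 := hA₀8 S
    obtain ⟨m, hm⟩ := IsPGroup.iff_card.1 S.2
    have h1 := Subgroup.card_le_of_le (hA₀R S)
    rw [hm] at h1
    have hm0 : m ≠ 0 := fun h => by rw [h, pow_zero] at h1; omega
    exact even_iff_two_dvd.2 (((dvd_pow_self 2 hm0).trans (dvd_of_eq hm.symm)).trans
      (Subgroup.card_dvd_of_le hSM))
  -- every involution of `M` lies in a Sylow subgroup with the same `W`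
  have hsame : ∀ u ∈ M, orderOf u = 2 → ∃ Q : Sylow 2 G, u ∈ (Q : Subgroup G) ∧ W Q = W S := by
    intro u hu hu2
    have hpu : IsPGroup 2 ↥(Subgroup.zpowers (⟨u, hu⟩ : ↥M)) :=
      IsPGroup.of_card (n := 1) (by
        rw [Nat.card_zpowers, ← Subgroup.orderOf_coe, pow_one]
        exact hu2)
    obtain ⟨Q0, hQ0⟩ := hpu.exists_le_sylow
    obtain ⟨m, hm⟩ := MulAction.exists_smul_eq (↥M) (S.subtype hSM) Q0
    refine ⟨(m : G) • S, ?_, ?_⟩
    · have h1 : (⟨u, hu⟩ : ↥M) ∈ (Q0 : Subgroup ↥M) := hQ0 (Subgroup.mem_zpowers _)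
      rw [← hm, Sylow.coe_subgroup_smul, Subgroup.mem_pointwise_smul_iff_inv_smul_mem,
        Sylow.coe_subtype, Subgroup.mem_subgroupOf] at h1
      rw [Sylow.coe_subgroup_smul, Subgroup.mem_pointwise_smul_iff_inv_smul_mem]
      exact h1
    · rw [hWconj]
      exact Subgroup.mem_normalizer_iff_map_conj_eq.1 m.2
  have hshare : ∀ u : G, orderOf u = 2 → ∀ Q Q' : Sylow 2 G, u ∈ (Q : Subgroup G) →
      u ∈ (Q' : Subgroup G) → W Q = W Q' := by
    intro u hu Q Q' hQ hQ'
    obtain ⟨c, hc, hcW⟩ := hshift u hu Q Q' hQ hQ'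
    rw [hcW, hWconj]
    exact (Subgroup.mem_normalizer_iff_map_conj_eq.1 (hkey u hu Q hQ hc)).symm
  have hSE : Cfsg.IsStronglyEmbedded M := by
    refine Involutions.StronglyEmbedded.of_forall_conj hMtop hMeven fun u hu hu2 g hg => ?_
    obtain ⟨Q, hQu, hQW⟩ := hsame u hu hu2
    obtain ⟨Q', hQ'u, hQ'W⟩ := hsame _ hg ((Involutions.Basic.orderOf_conj_eq g u).trans hu2)
    have h1 : g * u * g⁻¹ ∈ ((g • Q : Sylow 2 G) : Subgroup G) := by
      rw [Sylow.coe_subgroup_smul]
      exact Subgroup.smul_mem_pointwise_smul (a := MulAut.conj g) u (Q : Subgroup G) hQu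
    have h2 := hshare _ ((Involutions.Basic.orderOf_conj_eq g u).trans hu2) (g • Q) Q' h1 hQ'u
    rw [hWconj, hQW, hQ'W] at h2
    exact Subgroup.mem_normalizer_iff_map_conj_eq.2 h2
  refine hW0 ?_
  have h1 : W S ≤ (oddCore ↥M).map M.subtype := by
    intro x hx
    have hxM : x ∈ M := Subgroup.le_normalizer hx
    refine ⟨⟨x, hxM⟩, ?_, rfl⟩
    refine PSolvable.le_pPrimeCore (N := (W S).subgroupOf M) Subgroup.normal_in_normalizer ?_ hx
    rw [Nat.card_congr (Subgroup.subgroupOfEquivOfLe Subgroup.le_normalizer).toEquiv,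
      Nat.coprime_two_right]
    exact hWodd S
  rw [eq_bot_iff, ← hcoreG]
  exact h1.trans (hBender G M hSE)

end main

end Cfsg.Agent.Lib.BenderDeps.Row3109
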